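import Cfsg.Agent.Lib.Lie.PProduct.Interval

/-!
# Small configurations
-/

set_option autoImplicit false

namespace Cfsg.Agent.Lie.PProduct

open Equiv Equiv.Perm

theorem good_of_cert {Y : Type*} {p : ℕ} (hp : p.Prime) {a b : Perm Y} (m q : ℕ) (hq : q.Prime)
    (hqm : q ∣ m) (hqp : q ≠ p) (hm : (a * b) ^ m = 1) (hlt : ∀ j : Fin m, 0 < (j : ℕ) → (a * b) ^ (j : ℕ) ≠ 1)
    (hm0 : 0 < m) {A B : Perm Y} (hA : A ∈ Subgroup.closure ({a, b} : Set (Perm Y)))
    (hB : B ∈ Subgroup.closure ({a, b} : Set (Perm Y))) (h1 : A * A = 1) (h2 : B * B * B = 1)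
    (h3 : (A * B) ^ 5 = 1) (hne : A ≠ 1) : Good p a b := by
  refine ⟨?_, not_solvable_of_words hA hB h1 h2 h3 hne⟩
  rintro ⟨k, hk⟩
  rw [(orderOf_eq_iff hm0).2 ⟨hm, fun j hj hj0 => hlt ⟨j, hj⟩ hj0⟩] at hk
  rw [hk] at hqm
  exact hqp ((Nat.prime_dvd_prime_iff_eq hq hp).1 (hq.dvd_of_dvd_pow hqm))

/-- Evaluate a word in two letters. -/
def wd {Y : Type*} (a b : Perm Y) : List Bool → Perm Y
  | [] => 1
  | x :: l => (if x then b else a) * wd a b l

theorem wd_mem {Y : Type*} (a b : Perm Y) :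
    ∀ l : List Bool, wd a b l ∈ Subgroup.closure ({a, b} : Set (Perm Y))
  | [] => one_mem _
  | x :: l => by
    refine mul_mem ?_ (wd_mem a b l)
    cases x
    · exact Subgroup.subset_closure (Set.mem_insert a {b})
    · exact Subgroup.subset_closure (Set.mem_insert_of_mem a (Set.mem_singleton b))

/-- Words from `0`/`1` lists. -/
def bw (l : List ℕ) : List Bool := l.map (· == 1)

theorem five_odd : Good 5 (finRotate 5)
    (Equiv.swap 2 4 * (finRotate 5)⁻¹ * (Equiv.swap 2 4)⁻¹) :=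
  good_of_cert (by norm_num) 2 2 Nat.prime_two dvd_rfl (by norm_num) (by decide +kernel)
    (by decide +kernel) (by norm_num) (wd_mem _ _ (bw [0, 1])) (wd_mem _ _ (bw [0, 0, 0, 1]))
    (by decide +kernel) (by decide +kernel) (by decide +kernel) (by decide +kernel)

theorem five_even : Good 5 (finRotate 5)
    (Equiv.swap 2 3 * Equiv.swap 3 4 * (finRotate 5)⁻¹ * (Equiv.swap 2 3 * Equiv.swap 3 4)⁻¹) :=
  good_of_cert (by norm_num) 3 3 Nat.prime_three dvd_rfl (by norm_num) (by decide +kernel)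
    (by decide +kernel) (by norm_num) (wd_mem _ _ (bw [0, 0, 1])) (wd_mem _ _ (bw [0, 1]))
    (by decide +kernel) (by decide +kernel) (by decide +kernel) (by decide +kernel)

/-- A three-cycle on five points. -/
def a5 : Perm (Fin 5) := Equiv.swap 0 1 * Equiv.swap 1 2

/-- Two three-cycles on six points. -/
def a6 : Perm (Fin 6) := Equiv.swap 0 1 * Equiv.swap 1 2 * (Equiv.swap 3 4 * Equiv.swap 4 5)

/-- Interval data `3,1,1`. -/
def iv5 : Intervals 5 3 := ⟨![3, 1, 1], by decide, by decide⟩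

/-- Interval data `3,3`. -/
def iv6a : Intervals 6 2 := ⟨![3, 3], by decide, by decide⟩

/-- Interval data `3,1,1,1`. -/
def iv6b : Intervals 6 4 := ⟨![3, 1, 1, 1], by decide, by decide⟩

/-- Interval data `3,3,3`. -/
def iv9a : Intervals 9 3 := ⟨![3, 3, 3], by decide, by decide⟩

/-- Interval data `3,3,1,1,1`. -/
def iv9b : Intervals 9 5 := ⟨![3, 3, 1, 1, 1], by decide, by decide⟩

theorem five_three : ∃ κ : Perm (Fin 5), Good 3 a5 (κ * iv5.beta * κ⁻¹) :=
  ⟨Equiv.swap 1 3 * Equiv.swap 2 4,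
  good_of_cert (by norm_num) 5 5 (by norm_num) dvd_rfl (by norm_num) (by decide +kernel)
    (by decide +kernel) (by norm_num) (wd_mem _ _ (bw [0, 0, 1, 0, 1])) (wd_mem _ _ (bw [0]))
    (by decide +kernel) (by decide +kernel) (by decide +kernel) (by decide +kernel)⟩

theorem six_a : ∃ κ : Perm (Fin 6), Good 3 a6 (κ * iv6a.beta * κ⁻¹) :=
  ⟨Equiv.swap 2 3 * Equiv.swap 3 4,
  good_of_cert (by norm_num) 5 5 (by norm_num) dvd_rfl (by norm_num) (by decide +kernel)
    (by decide +kernel) (by norm_num) (wd_mem _ _ (bw [0, 0, 1, 0, 1])) (wd_mem _ _ (bw [0]))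
    (by decide +kernel) (by decide +kernel) (by decide +kernel) (by decide +kernel)⟩

theorem six_b : ∃ κ : Perm (Fin 6), Good 3 a6 (κ * iv6b.beta * κ⁻¹) :=
  ⟨Equiv.swap 1 2 * Equiv.swap 2 3,
  good_of_cert (by norm_num) 4 2 Nat.prime_two (by norm_num) (by norm_num) (by decide +kernel)
    (by decide +kernel) (by norm_num) (wd_mem _ _ (bw [0, 1, 0, 1])) (wd_mem _ _ (bw [0]))
    (by decide +kernel) (by decide +kernel) (by decide +kernel) (by decide +kernel)⟩

theorem nine_a : ∃ κ : Perm (Fin 9), Good 3 (finRotate 9) (κ * iv9a.beta * κ⁻¹) :=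
  ⟨Equiv.swap 4 8,
  good_of_cert (by norm_num) 4 2 Nat.prime_two (by norm_num) (by norm_num) (by decide +kernel)
    (by decide +kernel) (by norm_num) (wd_mem _ _ (bw [0, 1, 0, 1]))
    (wd_mem _ _ (bw [1, 0, 0, 1, 0, 0]))
    (by decide +kernel) (by decide +kernel) (by decide +kernel) (by decide +kernel)⟩

theorem nine_b : ∃ κ : Perm (Fin 9), Good 3 (finRotate 9) (κ * iv9b.beta * κ⁻¹) :=
  ⟨Equiv.swap 4 7,
  good_of_cert (by norm_num) 7 7 (by norm_num) dvd_rfl (by norm_num) (by decide +kernel)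
    (by decide +kernel) (by norm_num) (wd_mem _ _ (bw [0, 1, 1, 0, 0, 1, 1, 0])) (wd_mem _ _ (bw [1]))
    (by decide +kernel) (by decide +kernel) (by decide +kernel) (by decide +kernel)⟩

end Cfsg.Agent.Lie.PProduct
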