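import Mathlib

/-!
# Pairs of permutations with non-solvable closure and product not of prime power order
-/

set_option autoImplicit false

namespace Cfsg.Agent.Lie.PProduct

open Equiv Equiv.Perm

/-- The product is not of `p`-power order and the pair generates a non-solvable group. -/
def Good (p : ℕ) {X : Type*} (a b : Perm X) : Prop :=
  (¬ ∃ k : ℕ, orderOf (a * b) = p ^ k) ∧
    ¬ Group.IsSolvable ↥(Subgroup.closure ({a, b} : Set (Perm X)))

/-- A `(2,3,5)` certificate of non-solvability. -/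
theorem not_solvable_of_words {G : Type*} [Group G] {H : Subgroup G} {a b : G} (ha : a ∈ H)
    (hb : b ∈ H) (h1 : a * a = 1) (h2 : b * b * b = 1) (h3 : (a * b) ^ 5 = 1) (hne : a ≠ 1) :
    ¬ Group.IsSolvable ↥H := by
  intro hs
  let x : ↥H := ⟨a, ha⟩
  let y : ↥H := ⟨b, hb⟩
  let K : Subgroup ↥H := Subgroup.closure {x, y}
  haveI : Group.IsSolvable ↥K := solvable_of_solvable_injective (Subgroup.subtype_injective K)
  have hK : commutator ↥K = ⊤ := by
    rw [eq_top_iff, ← (Subgroup.closure_closure_coe_preimage : Subgroup.closure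
      (((↑) : ↥K → ↥H) ⁻¹' ({x, y} : Set ↥H)) = ⊤), Subgroup.closure_le]
    set A : ↥K := ⟨x, Subgroup.subset_closure (by simp)⟩ with hA
    set B : ↥K := ⟨y, Subgroup.subset_closure (by simp)⟩ with hB
    set A' := Abelianization.of A with hA'
    set B' := Abelianization.of B with hB'
    have e1 : A' * A' = 1 := by
      rw [hA', ← map_mul, ← map_one (Abelianization.of (G := ↥K))]
      exact congrArg _ (Subtype.ext (Subtype.ext h1))
    have e2 : B' * B' * B' = 1 := by
      rw [hB', ← map_mul, ← map_mul, ← map_one (Abelianization.of (G := ↥K))]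
      exact congrArg _ (Subtype.ext (Subtype.ext h2))
    have e3 : (A' * B') ^ 5 = 1 := by
      rw [hA', hB', ← map_mul, ← map_pow, ← map_one (Abelianization.of (G := ↥K))]
      exact congrArg _ (Subtype.ext (Subtype.ext (by simpa using h3)))
    have e6 : (A' * B') ^ 6 = 1 := by
      rw [mul_pow, show A' ^ 6 = (A' * A') ^ 3 by rw [← pow_two, ← pow_mul],
        show B' ^ 6 = (B' * B' * B') ^ 2 by rw [← pow_three', ← pow_mul], e1, e2, one_pow, one_pow,
        one_mul]
    have e4 : A' * B' = 1 := by rw [pow_succ, e3, one_mul] at e6; exact e6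
    have e5 : B' = A' := by
      calc B' = (A' * A') * B' := by rw [e1, one_mul]
        _ = A' := by rw [mul_assoc, e4, mul_one]
    have e7 : A' = 1 := by
      rw [e5, e1, one_mul] at e2
      exact e2
    intro z hz
    simp only [Set.mem_preimage, Set.mem_insert_iff, Set.mem_singleton_iff] at hz
    show z ∈ commutator ↥K
    rw [← Abelianization.ker_of ↥K, MonoidHom.mem_ker]
    rcases hz with h | h
    · rw [show z = A from Subtype.ext h]; exact e7
    · rw [show z = B from Subtype.ext h]; exact e5.trans e7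
  have hbot : (⊤ : Subgroup ↥K) = ⊥ := by
    obtain ⟨n, hn⟩ := (Group.isSolvable_def ↥K).1 inferInstance
    have : ∀ m, derivedSeries ↥K m = ⊤ := fun m => by
      induction m with
      | zero => rfl
      | succ m ih => rw [derivedSeries_succ, ih]; exact hK
    rwa [this n] at hn
  have : (⟨x, Subgroup.subset_closure (by simp)⟩ : ↥K) ∈ (⊥ : Subgroup ↥K) :=
    hbot ▸ Subgroup.mem_top _
  rw [Subgroup.mem_bot] at this
  exact hne (congrArg (fun z : ↥K => ((z : ↥H) : G)) this)

variable {X Y : Type*} {p : ℕ}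

/-- The pairs of permutations intertwined by an embedding. -/
def inter (e : Y ↪ X) : Subgroup (Perm X × Perm Y) where
  carrier := {g | ∀ y, g.1 (e y) = e (g.2 y)}
  one_mem' := fun _ => rfl
  mul_mem' := fun {g h} hg hh y => by
    show g.1 (h.1 (e y)) = e (g.2 (h.2 y))
    rw [hh, hg]
  inv_mem' := fun {g} hg y => by
    show g.1.symm (e y) = e (g.2.symm y)
    rw [Equiv.symm_apply_eq, hg, Equiv.apply_symm_apply]

/-- Goodness is inherited from an invariant block. -/
theorem good_of_block [Fact p.Prime] (e : Y ↪ X) {u v : Perm X} {a b : Perm Y}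
    (hu : ∀ y, u (e y) = e (a y)) (hv : ∀ y, v (e y) = e (b y)) (h : Good p a b) : Good p u v := by
  constructor
  · rintro ⟨k, hk⟩
    have ha : (u, a) ∈ inter e := hu
    have hb : (v, b) ∈ inter e := hv
    have hm : ((u, a) * (v, b)) ^ orderOf (u * v) ∈ inter e := pow_mem (mul_mem ha hb) _
    have h1 : (a * b) ^ orderOf (u * v) = 1 := by
      refine Equiv.ext fun y => e.injective ?_
      have h2 := hm y
      simp only [Prod.pow_fst, Prod.pow_snd, Prod.mk_mul_mk, pow_orderOf_eq_one] at h2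
      simpa using h2.symm
    rw [hk] at h1
    obtain ⟨j, -, hj⟩ := (Nat.dvd_prime_pow Fact.out).1 (orderOf_dvd_of_pow_eq_one h1)
    exact h.1 ⟨j, hj⟩
  · intro hs
    refine h.2 ?_
    set K := Subgroup.closure ({(u, a), (v, b)} : Set (Perm X × Perm Y)) with hK
    have hKi : K ≤ inter e := by
      rw [hK, Subgroup.closure_le, Set.insert_subset_iff, Set.singleton_subset_iff]
      exact ⟨hu, hv⟩
    have h1 : K.map (MonoidHom.fst _ _) = Subgroup.closure {u, v} := by
      rw [hK, MonoidHom.map_closure, Set.image_pair]; rfl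
    have h2 : K.map (MonoidHom.snd _ _) = Subgroup.closure {a, b} := by
      rw [hK, MonoidHom.map_closure, Set.image_pair]; rfl
    let F : ↥K →* ↥(Subgroup.closure ({u, v} : Set (Perm X))) :=
      ((MonoidHom.fst _ _).comp K.subtype).codRestrict _ fun g => by
        rw [← h1]; exact ⟨g, g.2, rfl⟩
    have hF : Function.Injective F := by
      intro g g' hgg
      have e1 : g.1.1 = g'.1.1 := congrArg Subtype.val hgg
      refine Subtype.ext (Prod.ext e1 (Equiv.ext fun y => e.injective ?_))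
      rw [← hKi g.2 y, ← hKi g'.2 y, e1]
    haveI := hs
    haveI : Group.IsSolvable ↥K := solvable_of_solvable_injective hF
    let S : ↥K →* ↥(Subgroup.closure ({a, b} : Set (Perm Y))) :=
      ((MonoidHom.snd _ _).comp K.subtype).codRestrict _ fun g => by
        rw [← h2]; exact ⟨g, g.2, rfl⟩
    refine solvable_of_surjective (f := S) fun g => ?_
    have hg := g.2
    simp only [← h2] at hg
    obtain ⟨k, hk, hk'⟩ := hg
    exact ⟨⟨k, hk⟩, Subtype.ext hk'⟩

theorem good_conj [Fact p.Prime] (c : Perm X) {u v : Perm X} (h : Good p u v) :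
    Good p (c * u * c⁻¹) (c * v * c⁻¹) :=
  good_of_block c.toEmbedding (fun y => by simp) (fun y => by simp) h

theorem good_symm [Fact p.Prime] {u v : Perm X} (h : Good p u v) : Good p v u := by
  refine ⟨?_, ?_⟩
  · rw [show v * u = v * (u * v) * v⁻¹ by group,
      show v * (u * v) * v⁻¹ = (MulAut.conj v).toMonoidHom (u * v) from rfl,
      orderOf_injective _ (MulAut.conj v).injective]
    exact h.1
  · rw [Set.pair_comm]; exact h.2

theorem commute_via (e : Y ↪ X) {u : Perm X} {a k : Perm Y} (hu : ∀ y, u (e y) = e (a y))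
    (hc : Commute k a) : Commute (k.viaEmbedding e) u := by
  refine Equiv.ext fun x => ?_
  simp only [Equiv.Perm.mul_apply]
  by_cases hx : x ∈ Set.range e
  · obtain ⟨y, rfl⟩ := hx
    rw [hu, viaEmbedding_apply, viaEmbedding_apply, hu]
    exact congrArg e (Equiv.congr_fun hc y)
  · have hux : u x ∉ Set.range e := by
      rintro ⟨y, hy⟩
      refine hx ⟨a.symm y, u.injective ?_⟩
      rw [hu, Equiv.apply_symm_apply, hy]
    rw [viaEmbedding_apply_of_notMem _ _ _ hx, viaEmbedding_apply_of_notMem _ _ _ hux]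

theorem via_conj_block (e : Y ↪ X) {v : Perm X} {b : Perm Y} (hv : ∀ y, v (e y) = e (b y))
    (k : Perm Y) (y : Y) :
    (k.viaEmbedding e * v * (k.viaEmbedding e)⁻¹) (e y) = e ((k * b * k⁻¹) y) := by
  obtain ⟨z, rfl⟩ := k.surjective y
  simp only [Equiv.Perm.mul_apply]
  rw [show (k.viaEmbedding e)⁻¹ (e (k z)) = e z by
    rw [Equiv.Perm.inv_eq_iff_eq, viaEmbedding_apply], hv, viaEmbedding_apply]
  simp

theorem sign_via [Fintype X] [DecidableEq X] [Fintype Y] [DecidableEq Y] (e : Y ↪ X) (k : Perm Y) :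
    sign (k.viaEmbedding e) = sign k := by
  classical
  unfold Equiv.Perm.viaEmbedding
  convert sign_extendDomain k (Equiv.ofInjective e.1 e.2)

/-- The parity can be repaired. -/
theorem finish [Fact p.Prime] [Fintype X] [DecidableEq X] [Fintype Y] [DecidableEq Y]
    (e : Y ↪ X) (u w σ : Perm X) {a b : Perm Y} (hu : ∀ y, u (e y) = e (a y))
    (hw : ∀ y, (σ * w * σ⁻¹) (e y) = e (b y)) (hg : Good p a b)
    (hpar : sign σ = 1 ∨ (∃ τ : Perm X, sign τ = -1 ∧ ∀ y, τ (e y) = e y) ∨
      (∃ c : Perm X, sign c = -1 ∧ Commute c w) ∨ ∃ c : Perm X, sign c = -1 ∧ Commute c u) :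
    ∃ s : Perm X, sign s = 1 ∧ Good p u (s * w * s⁻¹) := by
  have hG : Good p u (σ * w * σ⁻¹) := good_of_block e hu hw hg
  rcases Int.units_eq_one_or (sign σ) with h1 | h1
  · exact ⟨σ, h1, hG⟩
  rcases hpar with h | ⟨τ, hτ, hτe⟩ | ⟨c, hc, hcw⟩ | ⟨c, hc, hcu⟩
  · exact ⟨σ, h, hG⟩
  · refine ⟨τ * σ, by rw [map_mul, hτ, h1]; rfl, good_of_block e hu (fun y => ?_) hg⟩
    have hτ' : τ⁻¹ (e y) = e y := by rw [Equiv.Perm.inv_eq_iff_eq, hτe]
    rw [mul_inv_rev]
    simp only [Equiv.Perm.mul_apply] at hw ⊢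
    rw [hτ', hw, hτe]
  · refine ⟨σ * c, by rw [map_mul, hc, h1]; rfl, ?_⟩
    rw [show σ * c * w * (σ * c)⁻¹ = σ * (c * w * c⁻¹) * σ⁻¹ by group,
      show c * w * c⁻¹ = w from mul_inv_eq_iff_eq_mul.2 hcw]
    exact hG
  · refine ⟨c * σ, by rw [map_mul, hc, h1]; rfl, ?_⟩
    have := good_conj c hG
    rwa [show c * u * c⁻¹ = u from mul_inv_eq_iff_eq_mul.2 hcu,
      show c * (σ * w * σ⁻¹) * c⁻¹ = c * σ * w * (c * σ)⁻¹ by group] at this

end Cfsg.Agent.Lie.PProduct
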