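import Cfsg.Agent.Lib.Lie.PProduct.Model

/-!
# Interval cycles and their tweaks
-/

set_option autoImplicit false

namespace Cfsg.Agent.Lie.PProduct

open Equiv Equiv.Perm

/-- Interval cycles on `Fin N` with lengths `L`. -/
structure Intervals (N r : ℕ) where
  L : Fin r → ℕ
  pos : ∀ j, 0 < L j
  sum : ∑ j, L j = N

namespace Intervals

variable {N r : ℕ} (I : Intervals N r)

/-- The identification of the disjoint union with `Fin N`. -/
def toFin : (Σ j, Fin (I.L j)) ≃ Fin N := finSigmaFinEquiv.trans (finCongr I.sum)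

/-- Backwards interval cycles. -/
def beta : Perm (Fin N) := I.toFin.permCongr (pred I.L)

/-- The start of an interval. -/
def S (j : Fin r) : ℕ := ∑ i : Fin (j : ℕ), I.L (Fin.castLE j.2.le i)

theorem toFin_val (z : Σ j, Fin (I.L j)) : (I.toFin z : ℕ) = I.S z.1 + z.2 := by
  show (finSigmaFinEquiv z : ℕ) = _
  rw [finSigmaFinEquiv_apply]
  rfl

theorem S_zero (j : Fin r) (h : (j : ℕ) = 0) : I.S j = 0 := by
  obtain ⟨j, hj⟩ := j
  simp only at h
  subst h
  simp [S]

theorem S_succ (j k : Fin r) (h : (k : ℕ) = j + 1) : I.S k = I.S j + I.L j := by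
  obtain ⟨j, hj⟩ := j
  obtain ⟨k, hk⟩ := k
  simp only at h
  subst h
  simp only [S]
  rw [Fin.sum_univ_castSucc]
  rfl

theorem S_last (j : Fin r) (h : (j : ℕ) + 1 = r) : I.S j + I.L j = N := by
  obtain ⟨j, hj⟩ := j
  simp only at h
  subst h
  conv_rhs => rw [← I.sum, Fin.sum_univ_castSucc]
  rfl

variable [NeZero N]

theorem toFin_eq (z : Σ j, Fin (I.L j)) : I.toFin z = ix (I.S z.1 + z.2) := by
  rw [← I.toFin_val, ix_val]

theorem beta_toFin (z : Σ j, Fin (I.L j)) : I.beta (I.toFin z) = I.toFin (pred I.L z) := by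
  simp [beta, Equiv.permCongr_apply]

theorem beta_ix_succ (j : Fin r) {i : ℕ} (hi : i + 1 < I.L j) :
    I.beta (ix (I.S j + (i + 1))) = ix (I.S j + i) := by
  have h : pred I.L ⟨j, ⟨i + 1, hi⟩⟩ = ⟨j, ⟨i, by omega⟩⟩ := by
    simp only [pred, Equiv.sigmaCongrRight_apply, Sigma.mk.injEq, heq_eq_eq, true_and]
    rw [Equiv.symm_apply_eq]
    haveI : NeZero (I.L j) := ⟨by omega⟩
    rw [finRotate_apply]
    refine Fin.ext ?_
    rw [Fin.val_add, Fin.val_one', Nat.add_mod_mod]
    exact (Nat.mod_eq_of_lt hi).symm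
  have := I.beta_toFin ⟨j, ⟨i + 1, hi⟩⟩
  rw [h, I.toFin_eq, I.toFin_eq] at this
  exact this

theorem beta_start (j : Fin r) : I.beta (ix (I.S j)) = ix (I.S j + (I.L j - 1)) := by
  have hp := I.pos j
  have h : pred I.L ⟨j, ⟨0, hp⟩⟩ = ⟨j, ⟨I.L j - 1, by omega⟩⟩ := by
    simp only [pred, Equiv.sigmaCongrRight_apply, Sigma.mk.injEq, heq_eq_eq, true_and]
    rw [Equiv.symm_apply_eq]
    haveI : NeZero (I.L j) := ⟨by omega⟩
    rw [finRotate_apply]
    refine Fin.ext ?_
    rw [Fin.val_add, Fin.val_one', Nat.add_mod_mod,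
      show I.L j - 1 + 1 = I.L j by omega, Nat.mod_self]
  have := I.beta_toFin ⟨j, ⟨0, hp⟩⟩
  rw [h, I.toFin_eq, I.toFin_eq] at this
  simpa using this

/-- Rotation times interval cycles. -/
def gamma : Perm (Fin N) := finRotate N * I.beta

theorem gamma_fix (j : Fin r) {i : ℕ} (h0 : 0 < i) (hi : i < I.L j) :
    I.gamma (ix (I.S j + i)) = ix (I.S j + i) := by
  obtain ⟨i, rfl⟩ : ∃ k, i = k + 1 := ⟨i - 1, by omega⟩
  rw [gamma, Equiv.Perm.mul_apply, I.beta_ix_succ j hi, rot_ix]
  rfl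

theorem gamma_start (j : Fin r) : I.gamma (ix (I.S j)) = ix (I.S (finRotate r j)) := by
  have hp := I.pos j
  rw [gamma, Equiv.Perm.mul_apply, I.beta_start, rot_ix]
  obtain ⟨r, rfl⟩ : ∃ r', r = r' + 1 := ⟨r - 1, by have := j.2; omega⟩
  rw [show I.S j + (I.L j - 1) + 1 = I.S j + I.L j by omega]
  have hc := coe_finRotate j
  by_cases hj : j = Fin.last r
  · rw [if_pos hj] at hc
    rw [I.S_last j (by rw [hj]; rfl), I.S_zero _ hc]
    exact Fin.ext (by simp [ix])
  · rw [if_neg hj] at hc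
    rw [I.S_succ j _ hc]

theorem gamma_pow_start (j : Fin r) (m : ℕ) :
    (I.gamma ^ m) (ix (I.S j)) = ix (I.S ((finRotate r ^ m) j)) := by
  induction m with
  | zero => rfl
  | succ m ih => rw [pow_succ', Equiv.Perm.mul_apply, ih, I.gamma_start, pow_succ']; rfl

theorem gamma_pow_card : I.gamma ^ r = 1 := by
  refine Equiv.ext fun x => ?_
  obtain ⟨⟨j, i, hi⟩, rfl⟩ := I.toFin.surjective x
  rw [I.toFin_eq]
  rcases Nat.eq_zero_or_pos i with h0 | h0
  · subst h0
    rw [Nat.add_zero, I.gamma_pow_start, rot_pow_card]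
    rfl
  · exact Function.IsFixedPt.perm_pow (I.gamma_fix j h0 hi) r

theorem odd_card (hodd : ∀ j, Odd (I.L j)) (hN : Odd N) : Odd r := by
  rw [← I.sum, Nat.odd_iff, Finset.sum_nat_mod] at hN
  simp only [fun j => Nat.odd_iff.1 (hodd j), Finset.sum_const, Finset.card_univ, Fintype.card_fin,
    smul_eq_mul, Nat.mul_one] at hN
  exact Nat.odd_iff.2 hN

/-- A disjoint involutive tweak. -/
theorem good_tweak {p : ℕ} (hp : p.Prime) (hp3 : 3 ≤ p) (hr : Odd r) (δ : Perm (Fin N))
    (hδ2 : δ * δ = 1) (hδ1 : δ ≠ 1) (hdis : ∀ x, I.gamma x = x ∨ δ x = x)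
    (hns : ∀ H : Subgroup (Perm (Fin N)), finRotate N ∈ H → δ ∈ H → ¬ Group.IsSolvable ↥H) :
    Good p (finRotate N) (I.beta * δ) := by
  have hc : Commute I.gamma δ := Equiv.Perm.Disjoint.commute hdis
  have hpow : (finRotate N * (I.beta * δ)) ^ r = δ := by
    obtain ⟨k, hk⟩ := hr
    rw [← mul_assoc, show finRotate N * I.beta = I.gamma from rfl, hc.mul_pow, gamma_pow_card,
      one_mul, hk, pow_succ, pow_mul, pow_two, hδ2, one_pow, one_mul]
  refine ⟨?_, hns _ (Subgroup.subset_closure (by simp)) ?_⟩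
  · rintro ⟨k, hk⟩
    have h1 : orderOf δ ∣ p ^ k := by
      have := orderOf_pow_dvd (x := finRotate N * (I.beta * δ)) r
      rwa [hpow, hk] at this
    haveI : Fact (Nat.Prime 2) := ⟨Nat.prime_two⟩
    rw [orderOf_eq_prime (by rw [pow_two, hδ2]) hδ1] at h1
    have := (Nat.prime_dvd_prime_iff_eq Nat.prime_two hp).1 (Nat.prime_two.dvd_of_dvd_pow h1)
    omega
  · have := Subgroup.pow_mem _ (Subgroup.mul_mem _
      (Subgroup.subset_closure (Set.mem_insert (finRotate N) {I.beta * δ}))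
      (Subgroup.subset_closure (Set.mem_insert_of_mem _ (Set.mem_singleton _)))) r
    rwa [hpow] at this

theorem beta_small {i : ℕ} (j : Fin r) (hj : (j : ℕ) = 0) (hi : i + 1 < I.L j) :
    I.beta (ix (i + 1)) = ix i := by
  have := I.beta_ix_succ j hi
  rwa [I.S_zero j hj, Nat.zero_add, Nat.zero_add] at this

theorem gamma_small {i : ℕ} (j : Fin r) (hj : (j : ℕ) = 0) (h0 : 0 < i) (hi : i < I.L j) :
    I.gamma (ix i) = ix i := by
  have := I.gamma_fix j h0 hi
  rwa [I.S_zero j hj, Nat.zero_add] at this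

theorem le_total (j : Fin r) : I.L j ≤ N :=
  (Finset.single_le_sum (fun i _ => Nat.zero_le _) (Finset.mem_univ j)).trans_eq I.sum

theorem ix_ne {i j : ℕ} (hi : i < N) (hj : j < N) (h : i ≠ j) : (ix i : Fin N) ≠ ix j :=
  fun e => h ((ix_inj hi hj).1 e)

theorem dbl_sq {a b c d : ℕ} (ha : a < N) (hb : b < N) (hc : c < N) (hd : d < N) (h1 : a ≠ c)
    (h2 : a ≠ d) (h3 : b ≠ c) (h4 : b ≠ d) : (dbl a b c d : Perm (Fin N)) * dbl a b c d = 1 := by
  refine Equiv.ext fun x => ?_
  simp only [dbl, Equiv.Perm.mul_apply, Equiv.Perm.one_apply, Equiv.swap_apply_def]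
  split_ifs <;> simp_all [ix_inj]

theorem dbl_apply_fst {a b c d : ℕ} (ha : a < N) (hc : c < N) (hd : d < N) (h1 : a ≠ c)
    (h2 : a ≠ d) : (dbl a b c d : Perm (Fin N)) (ix a) = ix b := by
  rw [dbl, Equiv.Perm.mul_apply, Equiv.swap_apply_of_ne_of_ne (ix_ne ha hc h1) (ix_ne ha hd h2),
    Equiv.swap_apply_left]

theorem dbl_ne_one {a b c d : ℕ} (ha : a < N) (hb : b < N) (hc : c < N) (hd : d < N) (h1 : a ≠ c)
    (h2 : a ≠ d) (hab : a ≠ b) : (dbl a b c d : Perm (Fin N)) ≠ 1 := fun e => by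
  have := dbl_apply_fst (b := b) ha hc hd h1 h2
  rw [e] at this
  exact ix_ne ha hb hab this

/-- First tweak: the first interval has length at least five. -/
theorem good_first {p : ℕ} (hp : p.Prime) (hp3 : 3 ≤ p) (hr : Odd r) (hN : Odd N) (hN7 : 7 ≤ N)
    (j : Fin r) (hj : (j : ℕ) = 0) (hL : 5 ≤ I.L j) :
    ∃ κ : Perm (Fin N), sign κ = -1 ∧ Good p (finRotate N) (κ * I.beta * κ⁻¹) := by
  refine ⟨Equiv.swap (ix 1) (ix 3), sign_swap (ix_ne (by omega) (by omega) (by omega)), ?_⟩
  have key : Equiv.swap (ix 1) (ix 3) * I.beta * (Equiv.swap (ix 1) (ix 3))⁻¹ =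
      I.beta * dbl 1 3 2 4 := by
    have h1 : I.beta (ix 1) = ix 0 := I.beta_small j hj (by omega)
    have h2 : I.beta (ix 2) = ix 1 := I.beta_small j hj (by omega)
    have h3 : I.beta (ix 3) = ix 2 := I.beta_small j hj (by omega)
    have h4 : I.beta (ix 4) = ix 3 := I.beta_small j hj (by omega)
    refine Equiv.ext fun x => ?_
    rw [Equiv.swap_inv]
    simp only [dbl, Equiv.Perm.mul_apply]
    by_cases e1 : x = ix 1
    · subst e1; simp [Equiv.swap_apply_def, h1, h2, h3, h4, ix_inj, show 4 < N by omega,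
        show 3 < N by omega, show 2 < N by omega, show 1 < N by omega, show 0 < N by omega]
    by_cases e2 : x = ix 2
    · subst e2; simp [Equiv.swap_apply_def, h1, h2, h3, h4, ix_inj, show 4 < N by omega,
        show 3 < N by omega, show 2 < N by omega, show 1 < N by omega, show 0 < N by omega]
    by_cases e3 : x = ix 3
    · subst e3; simp [Equiv.swap_apply_def, h1, h2, h3, h4, ix_inj, show 4 < N by omega,
        show 3 < N by omega, show 2 < N by omega, show 1 < N by omega, show 0 < N by omega]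
    by_cases e4 : x = ix 4
    · subst e4; simp [Equiv.swap_apply_def, h1, h2, h3, h4, ix_inj, show 4 < N by omega,
        show 3 < N by omega, show 2 < N by omega, show 1 < N by omega, show 0 < N by omega]
    rw [Equiv.swap_apply_of_ne_of_ne e1 e3, Equiv.swap_apply_of_ne_of_ne e2 e4,
      Equiv.swap_apply_of_ne_of_ne e1 e3, Equiv.swap_apply_of_ne_of_ne]
    · exact fun h => e2 (I.beta.injective (h.trans h2.symm))
    · exact fun h => e4 (I.beta.injective (h.trans h4.symm))
  rw [key]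
  refine I.good_tweak hp hp3 hr _ (dbl_sq (by omega) (by omega) (by omega) (by omega) (by omega)
    (by omega) (by omega) (by omega)) (dbl_ne_one (by omega) (by omega) (by omega) (by omega)
    (by omega) (by omega) (by omega)) (fun x => ?_) (fun H hrH h => ?_)
  · by_cases hx : x = ix 1 ∨ x = ix 2 ∨ x = ix 3 ∨ x = ix 4
    · left
      rcases hx with rfl | rfl | rfl | rfl <;> exact I.gamma_small j hj (by omega) (by omega)
    · right
      push Not at hx
      rw [dbl, Equiv.Perm.mul_apply, Equiv.swap_apply_of_ne_of_ne hx.2.1 hx.2.2.2,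
        Equiv.swap_apply_of_ne_of_ne hx.1 hx.2.2.1]
  · exact not_solvable_two hrH (c := 1) (d := 1) (Or.inl rfl) hN7 hN (by omega) (by simpa using h)

/-- Second tweak: one interval. -/
theorem good_second {p : ℕ} (hp : p.Prime) (hp3 : 3 ≤ p) (hr : r = 1) (hN : Odd N) (hN7 : 7 ≤ N) :
    ∃ κ : Perm (Fin N), sign κ = 1 ∧ Good p (finRotate N) (κ * I.beta * κ⁻¹) := by
  subst hr
  refine ⟨Equiv.swap (ix 0) (ix 4) * Equiv.swap (ix 1) (ix 5), ?_, ?_⟩
  · rw [map_mul, sign_swap (ix_ne (by omega) (by omega) (by omega)),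
      sign_swap (ix_ne (by omega) (by omega) (by omega))]
    rfl
  have hL : I.L 0 = N := by have := I.sum; simpa using this
  have hs : ∀ i, i + 1 < N → I.beta (ix (i + 1)) = ix i := fun i hi =>
    I.beta_small 0 rfl (by rw [hL]; exact hi)
  have h0 : I.beta (ix 0) = ix (N - 1) := by
    have := I.beta_start 0
    rwa [I.S_zero 0 rfl, hL, Nat.zero_add] at this
  have key : Equiv.swap (ix 0) (ix 4) * Equiv.swap (ix 1) (ix 5) * I.beta *
      (Equiv.swap (ix 0) (ix 4) * Equiv.swap (ix 1) (ix 5))⁻¹ = I.beta * dbl 0 4 2 6 := by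
    have h1 : I.beta (ix 1) = ix 0 := hs 0 (by omega)
    have h2 : I.beta (ix 2) = ix 1 := hs 1 (by omega)
    have h3 : I.beta (ix 3) = ix 2 := hs 2 (by omega)
    have h4 : I.beta (ix 4) = ix 3 := hs 3 (by omega)
    have h5 : I.beta (ix 5) = ix 4 := hs 4 (by omega)
    have h6 : I.beta (ix 6) = ix 5 := hs 5 (by omega)
    refine Equiv.ext fun x => ?_
    rw [mul_inv_rev, Equiv.swap_inv, Equiv.swap_inv]
    simp only [dbl, Equiv.Perm.mul_apply]
    by_cases e : x = ix 0 ∨ x = ix 1 ∨ x = ix 2 ∨ x = ix 4 ∨ x = ix 5 ∨ x = ix 6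
    · rcases e with rfl | rfl | rfl | rfl | rfl | rfl <;>
        simp [Equiv.swap_apply_def, h0, h1, h2, h3, h4, h5, h6, ix_inj, show 0 < N by omega,
          show 1 < N by omega, show 2 < N by omega, show 3 < N by omega, show 4 < N by omega,
          show 5 < N by omega, show 6 < N by omega, show N - 1 < N by omega,
          show N - 1 ≠ 0 by omega, show N - 1 ≠ 1 by omega, show N - 1 ≠ 4 by omega,
          show N - 1 ≠ 5 by omega]
    push Not at e
    obtain ⟨e0, e1, e2, e4, e5, e6⟩ := e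
    rw [Equiv.swap_apply_of_ne_of_ne e0 e4, Equiv.swap_apply_of_ne_of_ne e1 e5,
      Equiv.swap_apply_of_ne_of_ne e2 e6, Equiv.swap_apply_of_ne_of_ne e0 e4,
      Equiv.swap_apply_of_ne_of_ne (a := ix 1) (b := ix 5),
      Equiv.swap_apply_of_ne_of_ne]
    · exact fun h => e1 (I.beta.injective (h.trans h1.symm))
    · exact fun h => e5 (I.beta.injective (h.trans h5.symm))
    · exact fun h => e2 (I.beta.injective (h.trans h2.symm))
    · exact fun h => e6 (I.beta.injective (h.trans h6.symm))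
  rw [key]
  refine I.good_tweak hp hp3 odd_one _ (dbl_sq (by omega) (by omega) (by omega) (by omega) (by omega)
    (by omega) (by omega) (by omega)) (dbl_ne_one (by omega) (by omega) (by omega) (by omega)
    (by omega) (by omega) (by omega)) (fun x => ?_) (fun H hrH h => ?_)
  · exact Or.inl (by have := I.gamma_pow_card; rw [pow_one] at this; rw [this]; rfl)
  · exact not_solvable_two hrH (c := 2) (d := 0) (Or.inr rfl) hN7 hN (by omega) (by simpa using h)

/-- Third tweak: two leading three-cycles. -/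
theorem good_third {p : ℕ} (hp : p.Prime) (hp3 : 3 ≤ p) (hr : Odd r) (hN : 15 ≤ N)
    (j k : Fin r) (hj : (j : ℕ) = 0) (hk : (k : ℕ) = 1) (hLj : I.L j = 3) (hLk : I.L k = 3) :
    ∃ κ : Perm (Fin N), Good p (finRotate N) (κ * I.beta * κ⁻¹) := by
  refine ⟨Equiv.swap (ix 1) (ix 4), ?_⟩
  have hSk : I.S k = 3 := by rw [I.S_succ j k (by omega), I.S_zero j hj, hLj]
  have key : Equiv.swap (ix 1) (ix 4) * I.beta * (Equiv.swap (ix 1) (ix 4))⁻¹ =
      I.beta * dbl 1 4 2 5 := by
    have h1 : I.beta (ix 1) = ix 0 := I.beta_small j hj (by omega)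
    have h2 : I.beta (ix 2) = ix 1 := I.beta_small j hj (by omega)
    have h4 : I.beta (ix 4) = ix 3 := by
      have := I.beta_ix_succ k (i := 0) (by omega); rwa [hSk] at this
    have h5 : I.beta (ix 5) = ix 4 := by
      have := I.beta_ix_succ k (i := 1) (by omega); rwa [hSk] at this
    refine Equiv.ext fun x => ?_
    rw [Equiv.swap_inv]
    simp only [dbl, Equiv.Perm.mul_apply]
    by_cases e : x = ix 1 ∨ x = ix 2 ∨ x = ix 4 ∨ x = ix 5
    · rcases e with rfl | rfl | rfl | rfl <;>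
        simp [Equiv.swap_apply_def, h1, h2, h4, h5, ix_inj, show 0 < N by omega, show 1 < N by omega,
          show 2 < N by omega, show 3 < N by omega, show 4 < N by omega, show 5 < N by omega]
    push Not at e
    obtain ⟨e1, e2, e4, e5⟩ := e
    rw [Equiv.swap_apply_of_ne_of_ne e1 e4, Equiv.swap_apply_of_ne_of_ne e2 e5,
      Equiv.swap_apply_of_ne_of_ne e1 e4, Equiv.swap_apply_of_ne_of_ne]
    · exact fun h => e2 (I.beta.injective (h.trans h2.symm))
    · exact fun h => e5 (I.beta.injective (h.trans h5.symm))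
  rw [key]
  refine I.good_tweak hp hp3 hr _ (dbl_sq (by omega) (by omega) (by omega) (by omega) (by omega)
    (by omega) (by omega) (by omega)) (dbl_ne_one (by omega) (by omega) (by omega) (by omega)
    (by omega) (by omega) (by omega)) (fun x => ?_) (fun H hrH h => not_solvable_three hrH hN h)
  by_cases hx : x = ix 1 ∨ x = ix 2 ∨ x = ix 4 ∨ x = ix 5
  · left
    rcases hx with rfl | rfl | rfl | rfl
    · exact I.gamma_small j hj (by omega) (by omega)
    · exact I.gamma_small j hj (by omega) (by omega)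
    · have := I.gamma_fix k (i := 1) (by omega) (by omega); rwa [hSk] at this
    · have := I.gamma_fix k (i := 2) (by omega) (by omega); rwa [hSk] at this
  · right
    push Not at hx
    rw [dbl, Equiv.Perm.mul_apply, Equiv.swap_apply_of_ne_of_ne hx.2.1 hx.2.2.2,
      Equiv.swap_apply_of_ne_of_ne hx.1 hx.2.2.1]

/-- A single three-cycle. -/
theorem good_single (hN : 9 ≤ N) (h3 : ¬ 3 ∣ r) (j : Fin r) (hj : (j : ℕ) = 0) (hLj : I.L j = 3)
    (h1 : ∀ i, i ≠ j → I.L i = 1) : Good 3 (finRotate N) I.beta := by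
  have e1 : I.beta (ix 1) = ix 0 := I.beta_small j hj (by omega)
  have e2 : I.beta (ix 2) = ix 1 := I.beta_small j hj (by omega)
  have e0 : I.beta (ix 0) = ix 2 := by
    have := I.beta_start j; rwa [I.S_zero j hj, hLj] at this
  refine ⟨?_, not_solvable_cycle (Subgroup.subset_closure (by simp)) (by omega) ?_⟩
  · rintro ⟨k, hk⟩
    have hd : orderOf I.gamma ∣ r := orderOf_dvd_of_pow_eq_one I.gamma_pow_card
    rw [show orderOf I.gamma = 3 ^ k from hk] at hd
    have hk0 : k = 0 := Nat.eq_zero_of_not_pos fun h => h3 ((dvd_pow_self 3 (by omega)).trans hd)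
    subst hk0
    rw [pow_zero, orderOf_eq_one_iff] at hk
    have := Equiv.congr_fun hk (ix 0)
    rw [Equiv.Perm.mul_apply, e0, rot_ix] at this
    exact ix_ne (by omega) (by omega) (by omega) (this : (ix (2 + 1) : Fin N) = ix 0)
  · rw [show Equiv.swap (ix 0) (ix 2) * Equiv.swap (ix 2) (ix 1) = I.beta from ?_]
    · exact Subgroup.subset_closure (Set.mem_insert_of_mem _ (Set.mem_singleton _))
    refine Equiv.ext fun x => ?_
    obtain ⟨⟨i, a, ha⟩, rfl⟩ := I.toFin.surjective x
    by_cases hi : i = j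
    · subst hi
      rw [I.toFin_eq, I.S_zero i hj, Nat.zero_add]
      rw [hLj] at ha
      interval_cases a <;> simp [Equiv.swap_apply_def, e0, e1, e2, ix_inj, show 0 < N by omega,
        show 1 < N by omega, show 2 < N by omega]
    · have hb := I.beta_start i
      have ha0 : a = 0 := by have := h1 i hi; omega
      subst ha0
      rw [h1 i hi] at hb
      rw [I.toFin_eq, Nat.add_zero, hb, Nat.sub_self, Nat.add_zero]
      have hv : ∀ b, b < 3 → (ix (I.S i) : Fin N) ≠ ix b := fun b hb' e => by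
        have e' : I.toFin ⟨i, ⟨0, ha⟩⟩ = I.toFin ⟨j, ⟨b, by omega⟩⟩ := by
          rw [I.toFin_eq, I.toFin_eq, I.S_zero j hj, Nat.zero_add, Nat.add_zero]; exact e
        exact hi (congrArg Sigma.fst (I.toFin.injective e'))
      rw [Equiv.Perm.mul_apply, Equiv.swap_apply_of_ne_of_ne (hv 2 (by omega)) (hv 1 (by omega)),
        Equiv.swap_apply_of_ne_of_ne (hv 0 (by omega)) (hv 2 (by omega))]

end Intervals

end Cfsg.Agent.Lie.PProduct
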