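import Cfsg.Agent.Lib.Lie.PProduct.Certs

/-!
# Two p-elements of an alternating group: product not of p-power order, non-solvable closure
-/

set_option autoImplicit false

namespace Cfsg.Agent.Lie.PProduct

open Equiv Equiv.Perm

variable {X : Type*} [Fintype X] [DecidableEq X] {p : ℕ}

theorem per_pow [hp : Fact p.Prime] {w : Perm X} (hw : ∃ k, orderOf w = p ^ k) (q : Cyc w) :
    ∃ j, per q = p ^ j := by
  obtain ⟨k, hk⟩ := hw
  obtain ⟨j, -, hj⟩ := (Nat.dvd_prime_pow hp.out).1 (hk ▸ per_dvd q)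
  exact ⟨j, hj⟩

theorem exists_max [hp : Fact p.Prime] [Nonempty X] {w : Perm X} (hw : ∃ k, orderOf w = p ^ k) :
    ∃ q : Cyc w, per q = orderOf w := by
  classical
  obtain ⟨x⟩ := ‹Nonempty X›
  obtain ⟨q, -, hq⟩ := Finset.exists_max_image (Finset.univ : Finset (Cyc w)) per
    ⟨⟦x⟧, Finset.mem_univ _⟩
  refine ⟨q, le_antisymm (Nat.le_of_dvd (orderOf_pos _) (per_dvd q)) (Nat.le_of_dvd (per_pos q) ?_)⟩
  rw [← orderOf_inv]
  refine orderOf_dvd_of_pow_eq_one (Equiv.ext fun y => ?_)
  obtain ⟨q', i, -, rfl⟩ := exists_pt (w := w) y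
  have hd : per q' ∣ per q := by
    obtain ⟨a, ha⟩ := per_pow hw q
    obtain ⟨b, hb⟩ := per_pow hw q'
    have := hq q' (Finset.mem_univ _)
    rw [ha, hb] at this
    rw [ha, hb]
    exact pow_dvd_pow _ ((Nat.pow_le_pow_iff_right hp.out.one_lt).1 this)
  obtain ⟨c, hc⟩ := hd
  show ((w⁻¹) ^ per q) (pt q' i) = pt q' i
  rw [pt, ← Equiv.Perm.mul_apply, ← pow_add]
  show pt q' (per q + i) = pt q' i
  rw [← pt_mod q' (per q + i), hc, Nat.mul_add_mod, pt_mod]

theorem exists_enum {Q : Type*} [DecidableEq Q] (t : Finset Q) {q : Q} (hq : q ∈ t) :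
    ∃ (r : ℕ) (qs : Fin (r + 1) ↪ Q), qs 0 = q ∧ (∀ j, qs j ∈ t) ∧
      ∀ g : Q → ℕ, ∑ j, g (qs j) = ∑ x ∈ t, g x := by
  obtain ⟨r, hr⟩ : ∃ r, t.card = r + 1 := ⟨t.card - 1, by have := Finset.card_pos.2 ⟨q, hq⟩; omega⟩
  let e : Fin (r + 1) ≃ {x // x ∈ t} := (t.equivFinOfCardEq hr).symm
  let e' : Fin (r + 1) ≃ {x // x ∈ t} := (Equiv.swap 0 (e.symm ⟨q, hq⟩)).trans e
  refine ⟨r, ⟨fun j => (e' j).1, fun a b h => e'.injective (Subtype.ext h)⟩,
    ?_, fun j => (e' j).2, fun g => ?_⟩
  · show (e' 0).1 = q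
    simp [e']
  · rw [← Finset.sum_coe_sort t, ← e'.sum_comp]
    rfl

theorem exists_extend {Y : Type*} (e f : Y ↪ X) : ∃ σ : Perm X, ∀ y, σ (f y) = e y := by
  classical
  let ef : {x // x ∈ Set.range f} ≃ {x // x ∈ Set.range e} :=
    (Equiv.ofInjective f f.injective).symm.trans (Equiv.ofInjective e e.injective)
  refine ⟨ef.extendSubtype, fun y => ?_⟩
  rw [Equiv.extendSubtype_apply_of_mem _ _ ⟨y, rfl⟩]
  show ((Equiv.ofInjective e e.injective)
    ((Equiv.ofInjective f f.injective).symm ⟨f y, _⟩) : X) = e y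
  rw [Equiv.ofInjective_symm_apply]
  rfl

/-- Options for repairing the parity. -/
def Par {Y : Type*} (e : Y ↪ X) (u w : Perm X) : Prop :=
  (∃ τ : Perm X, sign τ = -1 ∧ ∀ y, τ (e y) = e y) ∨
    (∃ c : Perm X, sign c = -1 ∧ Commute c w) ∨ ∃ c : Perm X, sign c = -1 ∧ Commute c u

theorem solve_block [Fact p.Prime] {Y : Type*} [Fintype Y] [DecidableEq Y] (e f : Y ↪ X)
    {u w : Perm X} {a b : Perm Y} (hu : ∀ y, u (e y) = e (a y)) (hw : ∀ y, w (f y) = f (b y))
    (h : (∃ κ : Perm Y, Good p a (κ * b * κ⁻¹)) ∧ Par e u w ∨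
      ∀ ε : ℤˣ, ∃ κ : Perm Y, sign κ = ε ∧ Good p a (κ * b * κ⁻¹)) :
    ∃ s : Perm X, sign s = 1 ∧ Good p u (s * w * s⁻¹) := by
  obtain ⟨σ, hσ⟩ := exists_extend e f
  have hσw : ∀ y, (σ * w * σ⁻¹) (e y) = e (b y) := fun y => by
    simp only [Equiv.Perm.mul_apply]
    rw [show σ⁻¹ (e y) = f y by rw [Equiv.Perm.inv_eq_iff_eq, hσ], hw, hσ]
  have hk : ∀ κ : Perm Y, ∀ y, (κ.viaEmbedding e * σ * w * (κ.viaEmbedding e * σ)⁻¹) (e y) =
      e ((κ * b * κ⁻¹) y) := fun κ y => by
    rw [show κ.viaEmbedding e * σ * w * (κ.viaEmbedding e * σ)⁻¹ =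
      κ.viaEmbedding e * (σ * w * σ⁻¹) * (κ.viaEmbedding e)⁻¹ by group]
    exact via_conj_block e hσw κ y
  rcases h with ⟨⟨κ, hg⟩, hpar⟩ | h
  · exact finish e u w _ hu (hk κ) hg (Or.inr hpar)
  · obtain ⟨κ, hs, hg⟩ := h (sign σ)
    exact finish e u w _ hu (hk κ) hg
      (Or.inl (by rw [map_mul, sign_via, hs, Int.units_mul_self]))

/-- Cycles of `w` as an interval block. -/
theorem exists_interval {w : Perm X} {r : ℕ} (qs : Fin r ↪ Cyc w) {N : ℕ}
    (hN : ∑ j, per (qs j) = N) :
    ∃ f : Fin N ↪ X, ∀ y, w (f y) =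
      f ((Intervals.mk (fun j => per (qs j)) (fun j => per_pos _) hN).beta y) := by
  obtain ⟨f, hf⟩ := exists_block qs (fun j => per (qs j)) fun j => rfl
  let I : Intervals N r := ⟨fun j => per (qs j), fun j => per_pos _, hN⟩
  refine ⟨I.toFin.symm.toEmbedding.trans f, fun y => ?_⟩
  show w (f (I.toFin.symm y)) = f (I.toFin.symm (I.beta y))
  rw [hf, Intervals.beta, Equiv.permCongr_apply, Equiv.symm_apply_apply]

theorem exists_forward {u : Perm X} {r : ℕ} (qs : Fin r ↪ Cyc u⁻¹) {N : ℕ}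
    (hN : ∑ j, per (qs j) = N) :
    ∃ e : Fin N ↪ X, ∀ y, u (e y) =
      e ((Intervals.mk (fun j => per (qs j)) (fun j => per_pos _) hN).beta⁻¹ y) := by
  obtain ⟨f, hf⟩ := exists_interval qs hN
  refine ⟨f, fun y => ?_⟩
  obtain ⟨z, rfl⟩ :=
    (Intervals.mk (fun j => per (qs j)) (fun j => per_pos _) hN).beta.surjective y
  rw [← hf, Equiv.Perm.inv_eq_iff_eq.2 rfl]
  simp

theorem five_both (ε : ℤˣ) : ∃ κ : Perm (Fin 5), sign κ = ε ∧
    Good 5 (finRotate 5) (κ * (finRotate 5)⁻¹ * κ⁻¹) := by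
  rcases Int.units_eq_one_or ε with rfl | rfl
  · exact ⟨_, by decide +kernel, five_even⟩
  · exact ⟨_, by decide +kernel, five_odd⟩

theorem comm_five : Commute (Equiv.swap 3 4) iv5.beta⁻¹ := by
  show Equiv.swap 3 4 * iv5.beta⁻¹ = iv5.beta⁻¹ * Equiv.swap 3 4
  decide +kernel

/-- The odd commuting permutation on six points. -/
def k6 : Perm (Fin 6) := Equiv.swap 0 3 * Equiv.swap 1 4 * Equiv.swap 2 5

theorem comm_six : Commute k6 iv6a.beta⁻¹ := by
  show k6 * iv6a.beta⁻¹ = iv6a.beta⁻¹ * k6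
  decide +kernel

theorem sign_k6 : sign k6 = -1 := by decide +kernel

theorem sign_five : sign (Equiv.swap 3 4 : Perm (Fin 5)) = -1 := by decide +kernel

theorem beta_one {N : ℕ} [NeZero N] (I : Intervals N 1) : I.beta = (finRotate N)⁻¹ := by
  have := I.gamma_pow_card
  rw [pow_one] at this
  exact eq_inv_of_mul_eq_one_right this

theorem distinct_false [hp : Fact p.Prime] {w : Perm X} (hw : ∃ k, orderOf w = p ^ k) {k : ℕ}
    (hlt : ∀ q : Cyc w, per q < p ^ k) (hn : p ^ k ≤ Fintype.card X) :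
    ∃ q q' : Cyc w, q ≠ q' ∧ per q = per q' := by
  classical
  by_contra h
  push Not at h
  have hs := sum_distinct_lt hp.out.two_le k (Finset.univ : Finset (Cyc w)) per (fun q _ => ?_)
    fun a _ b _ hab => by_contra fun hne => h a b hne hab
  · rw [sum_per] at hs; omega
  · obtain ⟨j, hj⟩ := per_pow hw q
    have := hlt q
    rw [hj] at this
    exact ⟨j, (Nat.pow_lt_pow_iff_right hp.out.one_lt).1 this, hj⟩

theorem par_of_equal [hp : Fact p.Prime] (hp3 : 3 ≤ p) {Y : Type*} (e : Y ↪ X) (u : Perm X)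
    {w : Perm X} (hw : ∃ k, orderOf w = p ^ k) {q q' : Cyc w} (hne : q ≠ q')
    (h : per q = per q') : Par e u w := by
  obtain ⟨j, hj⟩ := per_pow hw q
  exact Or.inr (Or.inl (exists_odd_commute hne h
    (hj ▸ (hp.out.odd_of_ne_two (by omega)).pow)))

/-- The longest cycle has length at least five. -/
theorem solve_large [hp : Fact p.Prime] (hp3 : 3 ≤ p) {u w : Perm X} {k : ℕ} (hk : orderOf u = p ^ k)
    (h5 : 5 ≤ p ^ k) (hw : ∃ k, orderOf w = p ^ k) (hw1 : w ≠ 1) (hle : orderOf w ≤ p ^ k) :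
    ∃ s : Perm X, sign s = 1 ∧ Good p u (s * w * s⁻¹) := by
  classical
  have hX : Nonempty X := by
    by_contra h
    rw [not_nonempty_iff] at h
    exact hw1 (Subsingleton.elim _ _)
  haveI : NeZero (p ^ k) := ⟨by omega⟩
  have hpodd : Odd p := hp.out.odd_of_ne_two (by omega)
  have hNodd : Odd (p ^ k) := hpodd.pow
  obtain ⟨q0, hq0⟩ := exists_max (w := u⁻¹) (p := p) ⟨k, by rw [orderOf_inv, hk]⟩
  rw [orderOf_inv, hk] at hq0
  obtain ⟨e, he⟩ := exists_forward (⟨fun _ : Fin 1 => q0, fun a b _ => Subsingleton.elim a b⟩)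
    (N := p ^ k) (by rw [Fin.sum_univ_one]; exact hq0)
  rw [beta_one, inv_inv] at he
  have hcard : p ^ k ≤ Fintype.card X := by simpa using Fintype.card_le_of_embedding e
  obtain ⟨q1, hq1⟩ := exists_max (w := w) (p := p) hw
  obtain ⟨i, hi⟩ := hw
  have hw : ∃ k, orderOf w = p ^ k := ⟨i, hi⟩
  have hmax : ∀ q : Cyc w, per q ≤ per q1 := fun q =>
    hq1 ▸ Nat.le_of_dvd (orderOf_pos _) (per_dvd q)
  have hb1 : per q1 ≤ p ^ k := hq1 ▸ hle
  have hdvd : ∀ q : Cyc w, per q ∣ p ^ k := fun q => by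
    obtain ⟨j, hj⟩ := per_pow hw q
    have := (hmax q).trans hb1
    rw [hj] at this ⊢
    exact pow_dvd_pow _ ((Nat.pow_le_pow_iff_right hp.out.one_lt).1 this)
  have hchain : ∀ x y : Cyc w, per x ≤ per y → per x ∣ per y := fun x y hxy => by
    obtain ⟨a, ha⟩ := per_pow hw x
    obtain ⟨b, hb⟩ := per_pow hw y
    rw [ha, hb] at hxy ⊢
    exact pow_dvd_pow _ ((Nat.pow_le_pow_iff_right hp.out.one_lt).1 hxy)
  have hsum := Finset.add_sum_erase (Finset.univ : Finset (Cyc w)) per (Finset.mem_univ q1)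
  rw [sum_per] at hsum
  obtain ⟨t, ht, hts⟩ := exists_subsum (fun q : Cyc w => per q) _
    ((Finset.univ : Finset (Cyc w)).erase q1) (p ^ k - per q1) rfl
    (fun x _ y _ => hchain x y) (fun x _ => Nat.dvd_sub (hdvd x) (hchain x q1 (hmax x)))
    (fun x _ => per_pos x) (by omega)
  obtain ⟨r, qs, hqs0, hqst, hqsum⟩ := exists_enum (insert q1 t) (Finset.mem_insert_self q1 t)
  have hN : ∑ j, per (qs j) = p ^ k := by
    rw [hqsum per, Finset.sum_insert fun h => Finset.notMem_erase q1 _ (ht h), hts]; omega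
  have hper : per q1 = p ^ i := hq1.trans hi
  by_cases hfull : per q1 = p ^ k
  · -- a single cycle on both sides
    have hr : r = 0 := by
      by_contra hr0
      obtain ⟨r, rfl⟩ : ∃ r', r = r' + 1 := ⟨r - 1, by omega⟩
      rw [Fin.sum_univ_succ, hqs0, hfull, Fin.sum_univ_succ] at hN
      have := per_pos (qs (Fin.succ 0))
      omega
    subst hr
    obtain ⟨f, hf⟩ := exists_interval qs hN
    refine solve_block e f he hf (Or.inr fun ε => ?_)
    have hne6 : p ^ k ≠ 6 := fun h => by rw [h] at hNodd; exact (by decide : ¬ Odd 6) hNodd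
    by_cases h7 : 7 ≤ p ^ k
    · rcases Int.units_eq_one_or ε with rfl | rfl
      · exact Intervals.good_second _ hp.out hp3 rfl hNodd h7
      · exact Intervals.good_first _ hp.out hp3 odd_one hNodd h7 0 rfl
          (by show 5 ≤ per (qs 0); rw [hqs0, hfull]; exact h5)
    · have h55 : p ^ k = 5 := by omega
      have hp5 : p = 5 := by
        have := (Nat.prime_dvd_prime_iff_eq hp.out (by norm_num : Nat.Prime 5)).1
          (h55 ▸ dvd_pow_self p (by rintro rfl; simp at h55))
        exact this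
      rw [beta_one]
      subst hp5
      clear hf f hNodd
      revert h55
      generalize (5 : ℕ) ^ k = N at *
      rintro rfl
      exact five_both ε
  have hb1lt : per q1 < p ^ k := lt_of_le_of_ne hb1 hfull
  obtain ⟨qa, qb, hab, habp⟩ := distinct_false hw (fun q => (hmax q).trans_lt hb1lt) hcard
  have hpar : Par e u w := par_of_equal hp3 e u hw hab habp
  have hi0 : 1 ≤ i := Nat.pos_of_ne_zero fun h => hw1 (orderOf_eq_one_iff.1 (by rw [hi, h, pow_zero]))
  have hik : i < k := (Nat.pow_lt_pow_iff_right hp.out.one_lt).1 (hper ▸ hb1lt)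
  have h3N : 3 * p ^ i ≤ p ^ k := by
    calc 3 * p ^ i ≤ p * p ^ i := Nat.mul_le_mul_right _ hp3
      _ = p ^ (i + 1) := by rw [pow_succ']
      _ ≤ p ^ k := Nat.pow_le_pow_right hp.out.pos hik
  by_cases hfive : 5 ≤ per q1
  · obtain ⟨f, hf⟩ := exists_interval qs hN
    refine solve_block e f he hf (Or.inl ⟨?_, hpar⟩)
    have hodd := Intervals.odd_card (Intervals.mk (fun j => per (qs j)) (fun j => per_pos _) hN)
      (fun j => by obtain ⟨a, ha⟩ := per_pow hw (qs j); show Odd (per (qs j)); rw [ha]; exact hpodd.pow)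
      hNodd
    obtain ⟨κ, -, hg⟩ := Intervals.good_first
      (Intervals.mk (fun j => per (qs j)) (fun j => per_pos _) hN) hp.out hp3 hodd hNodd
      (by omega) 0 rfl (by show 5 ≤ per (qs 0); rw [hqs0]; exact hfive)
    exact ⟨κ, hg⟩
  -- now the cycles of `w` have length one or three
  have hp_i : p ≤ p ^ i := Nat.le_self_pow (by omega) p
  have hp4 : p ≠ 4 := fun h => by have := hp.out; rw [h] at this; exact absurd this (by decide)
  obtain rfl : p = 3 := by omega
  have hi1 : i = 1 := by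
    by_contra h
    have : 3 ^ 2 ≤ 3 ^ i := Nat.pow_le_pow_right (by norm_num) (by omega)
    omega
  subst hi1
  rw [pow_one] at hper
  have hvals : ∀ q : Cyc w, per q = 1 ∨ per q = 3 := fun q => by
    have := per_dvd q
    rw [hi, pow_one] at this
    exact (Nat.dvd_prime Nat.prime_three).1 this
  have h9 : 9 ≤ 3 ^ k := by
    calc (9 : ℕ) = 3 ^ 2 := rfl
      _ ≤ 3 ^ k := Nat.pow_le_pow_right (by norm_num) hik
  by_cases htwo : ∃ j : Fin (r + 1), j ≠ 0 ∧ per (qs j) = 3
  · obtain ⟨j2, hj2, hj2p⟩ := htwo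
    obtain ⟨r, rfl⟩ : ∃ r', r = r' + 1 :=
      ⟨r - 1, by
        by_contra h
        exact hj2 (Fin.ext (by simp only [Fin.val_zero]; omega))⟩
    let qs' : Fin (r + 1 + 1) ↪ Cyc w := (Equiv.swap 1 j2).toEmbedding.trans qs
    have hN' : ∑ j, per (qs' j) = 3 ^ k := by
      rw [← hN]; exact Equiv.sum_comp (Equiv.swap 1 j2) fun j => per (qs j)
    have hd0 : per (qs' 0) = 3 := by
      show per (qs (Equiv.swap 1 j2 0)) = 3
      rw [Equiv.swap_apply_of_ne_of_ne (by simp) (Ne.symm hj2), hqs0, hper]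
    have hd1 : per (qs' 1) = 3 := by
      show per (qs (Equiv.swap 1 j2 1)) = 3
      rw [Equiv.swap_apply_left, hj2p]
    have hodd := Intervals.odd_card (Intervals.mk (fun j => per (qs' j)) (fun j => per_pos _) hN')
      (fun j => by
        show Odd (per (qs' j))
        rcases hvals (qs' j) with h | h <;> rw [h] <;> decide) hNodd
    obtain ⟨f, hf⟩ := exists_interval qs' hN'
    refine solve_block e f he hf (Or.inl ⟨?_, hpar⟩)
    by_cases h15 : 15 ≤ 3 ^ k
    · exact Intervals.good_third (Intervals.mk (fun j => per (qs' j)) (fun j => per_pos _) hN')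
        hp.out le_rfl hodd h15 0 1 rfl (by simp) hd0 hd1
    · have hk2 : k = 2 := by
        by_contra h
        have : 3 ^ 3 ≤ 3 ^ k := Nat.pow_le_pow_right (by norm_num) (by omega)
        omega
      subst hk2
      have hlow : r + 1 + 1 ≤ 5 := by
        by_contra h
        obtain ⟨r, rfl⟩ : ∃ r', r = r' + 4 := ⟨r - 4, by omega⟩
        rw [Fin.sum_univ_succ, Fin.sum_univ_succ, Fin.sum_univ_succ, Fin.sum_univ_succ,
          Fin.sum_univ_succ, Fin.sum_univ_succ, hd0,
          show per (qs' (Fin.succ 0)) = 3 from hd1] at hN'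
        have := per_pos (qs' (Fin.succ (Fin.succ 0)))
        have := per_pos (qs' (Fin.succ (Fin.succ (Fin.succ 0))))
        have := per_pos (qs' (Fin.succ (Fin.succ (Fin.succ (Fin.succ 0)))))
        have := per_pos (qs' (Fin.succ (Fin.succ (Fin.succ (Fin.succ (Fin.succ 0))))))
        have h9' : (3 : ℕ) ^ 2 = 9 := rfl
        omega
      obtain ⟨t', ht'⟩ := hodd
      have hr13 : r = 1 ∨ r = 3 := by omega
      rcases hr13 with rfl | rfl
      · have hL : (fun j => per (qs' j)) = ![3, 3, 3] := by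
          rw [Fin.sum_univ_three] at hN'
          funext j; fin_cases j
          · exact hd0
          · exact hd1
          · show per (qs' 2) = 3
            have h9' : (3 : ℕ) ^ 2 = 9 := rfl
            have e0 : per (qs' 0) = 3 := hd0
            have e1 : per (qs' 1) = 3 := hd1
            omega
        simp only [hL]
        exact nine_a
      · have hL : (fun j => per (qs' j)) = ![3, 3, 1, 1, 1] := by
          rw [Fin.sum_univ_five] at hN'
          have h9' : (3 : ℕ) ^ 2 = 9 := rfl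
          have e0 : per (qs' 0) = 3 := hd0
          have e1 : per (qs' 1) = 3 := hd1
          have := per_pos (qs' 2)
          have := per_pos (qs' 3)
          have := per_pos (qs' 4)
          funext j; fin_cases j
          · exact hd0
          · exact hd1
          · show per (qs' 2) = 1; omega
          · show per (qs' 3) = 1; omega
          · show per (qs' 4) = 1; omega
        simp only [hL]
        exact nine_b
  · push Not at htwo
    have hone : ∀ j : Fin (r + 1), j ≠ 0 → per (qs j) = 1 := fun j hj =>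
      (hvals _).resolve_right (htwo j hj)
    have hr : r + 3 = 3 ^ k := by
      rw [← hN, Fin.sum_univ_succ, hqs0, hper,
        Finset.sum_congr rfl fun j _ => hone j.succ (Fin.succ_ne_zero j)]
      simp
      omega
    obtain ⟨f, hf⟩ := exists_interval qs hN
    refine solve_block e f he hf (Or.inl ⟨⟨1, ?_⟩, hpar⟩)
    rw [one_mul, inv_one, mul_one]
    exact Intervals.good_single (Intervals.mk (fun j => per (qs j)) (fun j => per_pos _) hN) h9
      (by have := dvd_pow_self 3 (show k ≠ 0 by omega); omega) 0 rfl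
      (by show per (qs 0) = 3; rw [hqs0, hper]) hone

/-- The count of cycles when all have length one or three. -/
theorem count_three {w : Perm X} (hw : orderOf w = 3) :
    3 * (Finset.univ.filter fun q : Cyc w => per q = 3).card +
      (Finset.univ.filter fun q : Cyc w => per q = 1).card = Fintype.card X := by
  classical
  rw [← sum_per (w := w), ← Finset.sum_filter_add_sum_filter_not Finset.univ fun q : Cyc w => per q = 3]
  have h : ∀ q : Cyc w, per q ≠ 3 ↔ per q = 1 := fun q => by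
    have := (Nat.dvd_prime Nat.prime_three).1 (hw ▸ per_dvd q)
    omega
  simp only [h]
  rw [Finset.sum_congr rfl fun q hq => (Finset.mem_filter.1 hq).2,
    Finset.sum_congr (s₁ := Finset.univ.filter fun q : Cyc w => per q = 1) rfl fun q hq =>
      (Finset.mem_filter.1 hq).2]
  simp [Nat.mul_comm]

theorem qs_sum {w : Perm X} {r : ℕ} (qs : Fin r ↪ Cyc w) {L : Fin r → ℕ}
    (h : ∀ j, per (qs j) = L j) : (fun j => per (qs j)) = L := funext h

/-- Five points. -/
theorem solve_five {u w : Perm X} (hu : orderOf u = 3) (hw : orderOf w = 3)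
    (hu1 : 2 ≤ (Finset.univ.filter fun q : Cyc u⁻¹ => per q = 1).card)
    (hw1 : 2 ≤ (Finset.univ.filter fun q : Cyc w => per q = 1).card) :
    ∃ s : Perm X, sign s = 1 ∧ Good 3 u (s * w * s⁻¹) := by
  classical
  haveI : Fact (Nat.Prime 3) := ⟨Nat.prime_three⟩
  have hX : Nonempty X := by
    by_contra h
    rw [not_nonempty_iff] at h
    rw [Subsingleton.elim u 1, orderOf_one] at hu
    omega
  have mk : ∀ v : Perm X, orderOf v = 3 → 2 ≤ (Finset.univ.filter fun q : Cyc v => per q = 1).card →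
      ∃ qs : Fin 3 ↪ Cyc v, ∀ j, per (qs j) = ![3, 1, 1] j := by
    intro v hv h2
    obtain ⟨q, hq⟩ := exists_max (w := v) (p := 3) ⟨1, by simpa using hv⟩
    rw [hv] at hq
    obtain ⟨a, ha, b, hb, hab⟩ := Finset.one_lt_card.1
      (show 1 < (Finset.univ.filter fun q : Cyc v => per q = 1).card by omega)
    simp only [Finset.mem_filter, Finset.mem_univ, true_and] at ha hb
    have hqa : q ≠ a := fun h => by rw [h, ha] at hq; omega
    have hqb : q ≠ b := fun h => by rw [h, hb] at hq; omega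
    refine ⟨⟨![q, a, b], fun i j h => ?_⟩, fun j => ?_⟩
    · fin_cases i <;> fin_cases j <;> simp_all [Ne.symm hqa, Ne.symm hqb, Ne.symm hab]
    · fin_cases j
      exacts [hq, ha, hb]
  obtain ⟨qu, hqu⟩ := mk u⁻¹ (by rw [orderOf_inv, hu]) hu1
  obtain ⟨qw, hqw⟩ := mk w hw hw1
  obtain ⟨e, he⟩ := exists_forward qu (N := 5) (by simp only [hqu]; decide)
  obtain ⟨f, hf⟩ := exists_interval qw (N := 5) (by simp only [hqw]; decide)
  simp only [qs_sum qu hqu] at he
  simp only [qs_sum qw hqw] at hf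
  refine solve_block e f he hf (Or.inl ⟨?_, Or.inr (Or.inr ⟨(Equiv.swap 3 4).viaEmbedding e,
    (sign_via e _).trans sign_five, commute_via e he comm_five⟩)⟩)
  obtain ⟨κ, hκ⟩ := five_three
  refine ⟨κ, ?_⟩
  rw [show a5 = iv5.beta⁻¹ by decide +kernel] at hκ
  exact hκ

set_option maxHeartbeats 800000 in
/-- Six points. -/
theorem solve_six {u w : Perm X} (hu : orderOf u = 3) (hw : orderOf w = 3)
    (hn : 5 ≤ Fintype.card X)
    (hu1 : (Finset.univ.filter fun q : Cyc u⁻¹ => per q = 1).card ≤ 1) :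
    ∃ s : Perm X, sign s = 1 ∧ Good 3 u (s * w * s⁻¹) := by
  classical
  haveI : Fact (Nat.Prime 3) := ⟨Nat.prime_three⟩
  have hc := count_three (w := u⁻¹) (by rw [orderOf_inv, hu])
  have hc' := count_three hw
  have h2 : 1 < (Finset.univ.filter fun q : Cyc u⁻¹ => per q = 3).card := by omega
  obtain ⟨a, ha, b, hb, hab⟩ := Finset.one_lt_card.1 h2
  simp only [Finset.mem_filter, Finset.mem_univ, true_and] at ha hb
  let qu : Fin 2 ↪ Cyc u⁻¹ := ⟨![a, b], fun i j h => by
    fin_cases i <;> fin_cases j <;> simp_all [Ne.symm hab]⟩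
  have hqu : ∀ j, per (qu j) = ![3, 3] j := fun j => by fin_cases j; exacts [ha, hb]
  obtain ⟨e, he⟩ := exists_forward qu (N := 6) (by simp only [hqu]; decide)
  simp only [qs_sum qu hqu] at he
  have hpar : Par e u w := Or.inr (Or.inr
    ⟨k6.viaEmbedding e, (sign_via e _).trans sign_k6, commute_via e he comm_six⟩)
  have hn6 : 6 ≤ Fintype.card X := by omega
  by_cases hw2 : 1 < (Finset.univ.filter fun q : Cyc w => per q = 3).card
  · obtain ⟨c, hc3, d, hd3, hcd⟩ := Finset.one_lt_card.1 hw2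
    simp only [Finset.mem_filter, Finset.mem_univ, true_and] at hc3 hd3
    let qw : Fin 2 ↪ Cyc w := ⟨![c, d], fun i j h => by
      fin_cases i <;> fin_cases j <;> simp_all [Ne.symm hcd]⟩
    have hqw : ∀ j, per (qw j) = ![3, 3] j := fun j => by fin_cases j; exacts [hc3, hd3]
    obtain ⟨f, hf⟩ := exists_interval qw (N := 6) (by simp only [hqw]; decide)
    simp only [qs_sum qw hqw] at hf
    refine solve_block e f he hf (Or.inl ⟨?_, hpar⟩)
    obtain ⟨κ, hκ⟩ := six_a
    refine ⟨κ, ?_⟩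
    rw [show a6 = iv6a.beta⁻¹ by decide +kernel] at hκ
    exact hκ
  · haveI : Nonempty X := Fintype.card_pos_iff.1 (by omega)
    obtain ⟨q, hq⟩ := exists_max (w := w) (p := 3) ⟨1, by simpa using hw⟩
    rw [hw] at hq
    obtain ⟨t, ht, ht3⟩ := Finset.exists_subset_card_eq
      (s := Finset.univ.filter fun q : Cyc w => per q = 1) (n := 3) (by omega)
    obtain ⟨x, y, z, hxy, hxz, hyz, rfl⟩ := Finset.card_eq_three.1 ht3
    simp only [Finset.insert_subset_iff, Finset.singleton_subset_iff, Finset.mem_filter,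
      Finset.mem_univ, true_and] at ht
    obtain ⟨hx, hy, hz⟩ := ht
    have hqx : q ≠ x := fun h => by rw [h, hx] at hq; omega
    have hqy : q ≠ y := fun h => by rw [h, hy] at hq; omega
    have hqz : q ≠ z := fun h => by rw [h, hz] at hq; omega
    let qw : Fin 4 ↪ Cyc w := ⟨![q, x, y, z], fun i j h => by
      fin_cases i <;> fin_cases j <;>
        simp_all [Ne.symm hqx, Ne.symm hqy, Ne.symm hqz, Ne.symm hxy, Ne.symm hxz, Ne.symm hyz]⟩
    have hqw : ∀ j, per (qw j) = ![3, 1, 1, 1] j := fun j => by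
      fin_cases j; exacts [hq, hx, hy, hz]
    obtain ⟨f, hf⟩ := exists_interval qw (N := 6) (by simp only [hqw]; decide)
    simp only [qs_sum qw hqw] at hf
    refine solve_block e f he hf (Or.inl ⟨?_, hpar⟩)
    obtain ⟨κ, hκ⟩ := six_b
    refine ⟨κ, ?_⟩
    rw [show a6 = iv6a.beta⁻¹ by decide +kernel] at hκ
    exact hκ

theorem reverse [Fact p.Prime] {u w : Perm X}
    (h : ∃ s : Perm X, sign s = 1 ∧ Good p w (s * u * s⁻¹)) :
    ∃ s : Perm X, sign s = 1 ∧ Good p u (s * w * s⁻¹) := by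
  obtain ⟨s, hs, hg⟩ := h
  refine ⟨s⁻¹, by rw [map_inv, hs, inv_one], good_symm ?_⟩
  have := good_conj s⁻¹ hg
  rwa [show s⁻¹ * (s * u * s⁻¹) * (s⁻¹)⁻¹ = u by group] at this

theorem inv_fix_card (w : Perm X) :
    (Finset.univ.filter fun q : Cyc w => per q = 1).card =
      (Finset.univ.filter fun x : X => w x = x).card := by
  classical
  refine Finset.card_bij (fun q _ => q.out) (fun q hq => ?_) (fun a _ b _ h => Quotient.out_injective h)
    (fun x hx => ?_)
  · simp only [Finset.mem_filter, Finset.mem_univ, true_and] at hq ⊢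
    have := Function.minimalPeriod_eq_one_iff_isFixedPt.1 hq
    exact (Equiv.Perm.inv_eq_iff_eq.1 this).symm
  · simp only [Finset.mem_filter, Finset.mem_univ, true_and] at hx ⊢
    have hfix : w⁻¹ x = x := Equiv.Perm.inv_eq_iff_eq.2 hx.symm
    have hout : (⟦x⟧ : Cyc w).out = x := by
      obtain ⟨i, -, hi⟩ := (Quotient.mk_out (s := SameCycle.setoid w⁻¹) x).symm.exists_pow_eq'
      rw [← hi]
      exact Function.IsFixedPt.perm_pow hfix i
    exact ⟨⟦x⟧, Function.minimalPeriod_eq_one_iff_isFixedPt.2 (by rw [hout]; exact hfix), hout⟩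

/-- The theorem for permutations. -/
theorem exists_even_conj [hp : Fact p.Prime] (hp3 : 3 ≤ p) {u w : Perm X}
    (hn : 5 ≤ Fintype.card X) (hu : ∃ k, orderOf u = p ^ k) (hw : ∃ k, orderOf w = p ^ k)
    (hu1 : u ≠ 1) (hw1 : w ≠ 1) : ∃ s : Perm X, sign s = 1 ∧ Good p u (s * w * s⁻¹) := by
  classical
  suffices H : ∀ a b : Perm X, (∃ k, orderOf a = p ^ k) → (∃ k, orderOf b = p ^ k) → b ≠ 1 →
      orderOf b ≤ orderOf a → 5 ≤ orderOf a →
      ∃ s : Perm X, sign s = 1 ∧ Good p a (s * b * s⁻¹) by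
    by_cases h5 : 5 ≤ max (orderOf u) (orderOf w)
    · rcases le_total (orderOf w) (orderOf u) with h | h
      · exact H u w hu hw hw1 h (by rwa [max_eq_left h] at h5)
      · exact reverse (H w u hw hu hu1 h (by rwa [max_eq_right h] at h5))
    · have key : ∀ a : Perm X, (∃ k, orderOf a = p ^ k) → a ≠ 1 → orderOf a ≤ 4 →
          p = 3 ∧ orderOf a = 3 := by
        rintro a ⟨k, hk⟩ ha ha4
        have hk0 : k ≠ 0 := fun h => ha (orderOf_eq_one_iff.1 (by rw [hk, h, pow_zero]))
        have := Nat.le_self_pow hk0 p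
        have hp4 : p ≠ 4 := fun h => by
          have := hp.out; rw [h] at this; exact absurd this (by decide)
        obtain rfl : p = 3 := by omega
        refine ⟨rfl, ?_⟩
        by_contra hne
        have : k ≠ 1 := fun h => hne (by rw [hk, h, pow_one])
        have : 3 ^ 2 ≤ 3 ^ k := Nat.pow_le_pow_right (by norm_num) (by omega)
        omega
      obtain ⟨rfl, hu3⟩ := key u hu hu1 (by omega)
      obtain ⟨-, hw3⟩ := key w hw hw1 (by omega)
      have hiu : ∀ v : Perm X, (Finset.univ.filter fun q : Cyc v⁻¹ => per q = 1).card =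
          (Finset.univ.filter fun q : Cyc v => per q = 1).card := fun v => by
        rw [inv_fix_card, inv_fix_card]
        refine congrArg Finset.card (Finset.filter_congr fun x _ => ?_)
        rw [Equiv.Perm.inv_eq_iff_eq, eq_comm]
      by_cases h1 : (Finset.univ.filter fun q : Cyc u⁻¹ => per q = 1).card ≤ 1
      · exact solve_six hu3 hw3 hn h1
      by_cases h2 : (Finset.univ.filter fun q : Cyc w => per q = 1).card ≤ 1
      · exact reverse (solve_six hw3 hu3 hn (by rw [hiu]; exact h2))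
      · exact solve_five hu3 hw3 (by omega) (by omega)
  intro a b ⟨k, hk⟩ hb hb1 hle h5
  exact solve_large hp3 hk (hk ▸ h5) hb hb1 (hk ▸ hle)

end Cfsg.Agent.Lie.PProduct
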