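import Cfsg.Agent.Lib.Lie.PProduct.Orbits

/-!
# The model: a long cycle against interval cycles
-/

set_option autoImplicit false

namespace Cfsg.Agent.Lie.PProduct

open Equiv Equiv.Perm

variable {N : ℕ} [NeZero N]

/-- The residue of a natural number in `Fin N`. -/
def ix (i : ℕ) : Fin N := ⟨i % N, Nat.mod_lt _ (NeZero.pos N)⟩

theorem ix_val (x : Fin N) : ix (x : ℕ) = x := Fin.ext (Nat.mod_eq_of_lt x.2)

theorem rot_ix (i : ℕ) : finRotate N (ix i) = (ix (i + 1) : Fin N) := by
  rw [finRotate_apply]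
  ext
  simp [ix, Fin.val_add, Fin.val_one', Nat.add_mod]

theorem ix_inj {i j : ℕ} (hi : i < N) (hj : j < N) : (ix i : Fin N) = ix j ↔ i = j := by
  simp [ix, Nat.mod_eq_of_lt hi, Nat.mod_eq_of_lt hj]

theorem rot_pow_ix (j i : ℕ) : (finRotate N ^ j) (ix i) = (ix (i + j) : Fin N) := by
  induction j with
  | zero => rfl
  | succ j ih => rw [pow_succ', Equiv.Perm.mul_apply, ih, rot_ix, Nat.add_assoc]

theorem rot_pow_card (r : ℕ) : finRotate r ^ r = 1 := by
  cases r with
  | zero => exact Subsingleton.elim _ _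
  | succ r =>
    refine Equiv.ext fun i => ?_
    rw [← ix_val i, rot_pow_ix]
    exact Fin.ext (Nat.add_mod_right _ _)

/-- Conjugation of a swap by a power of the rotation. -/
theorem swap_shift (j a b : ℕ) :
    finRotate N ^ j * Equiv.swap (ix a) (ix b) * (finRotate N ^ j)⁻¹ =
      Equiv.swap (ix (a + j) : Fin N) (ix (b + j)) := by
  rw [← Equiv.swap_apply_apply, rot_pow_ix, rot_pow_ix]

/-- A product of two swaps. -/
def dbl (a b c d : ℕ) : Perm (Fin N) := Equiv.swap (ix a) (ix b) * Equiv.swap (ix c) (ix d)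

theorem dbl_mem {H : Subgroup (Perm (Fin N))} (hr : finRotate N ∈ H) {a b c d : ℕ}
    (h : dbl a b c d ∈ H) (j : ℕ) : (dbl (a + j) (b + j) (c + j) (d + j) : Perm (Fin N)) ∈ H := by
  have := H.mul_mem (H.mul_mem (pow_mem hr j) h) (inv_mem (pow_mem hr j))
  rwa [dbl, show finRotate N ^ j * (Equiv.swap (ix a) (ix b) * Equiv.swap (ix c) (ix d)) *
      (finRotate N ^ j)⁻¹ = (finRotate N ^ j * Equiv.swap (ix a) (ix b) * (finRotate N ^ j)⁻¹) *
        (finRotate N ^ j * Equiv.swap (ix c) (ix d) * (finRotate N ^ j)⁻¹) by group,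
    swap_shift, swap_shift] at this

theorem via_swap {Y X : Type*} [DecidableEq Y] [DecidableEq X] (e : Y ↪ X) (a b : Y) :
    viaEmbeddingHom e (Equiv.swap a b) = Equiv.swap (e a) (e b) := by
  rw [viaEmbeddingHom_apply]
  refine Equiv.ext fun x => ?_
  by_cases hx : x ∈ Set.range e
  · obtain ⟨y, rfl⟩ := hx
    rw [viaEmbedding_apply, e.injective.swap_apply]
  · rw [viaEmbedding_apply_of_notMem _ _ _ hx, Equiv.swap_apply_of_ne_of_ne]
    · exact fun h => hx ⟨a, h.symm⟩
    · exact fun h => hx ⟨b, h.symm⟩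

theorem not_solvable_map {Y X : Type*} (e : Y ↪ X) {H : Subgroup (Perm X)} {a b : Perm Y}
    (ha : viaEmbeddingHom e a ∈ H) (hb : viaEmbeddingHom e b ∈ H) (h1 : a * a = 1)
    (h2 : b * b * b = 1) (h3 : (a * b) ^ 5 = 1) (hne : a ≠ 1) : ¬ Group.IsSolvable ↥H := by
  refine not_solvable_of_words ha hb ?_ ?_ ?_ fun h => hne (viaEmbeddingHom_injective e (h.trans
    (map_one _).symm))
  · rw [← map_mul, h1, map_one]
  · rw [← map_mul, ← map_mul, h2, map_one]
  · rw [← map_mul, ← map_pow, h3, map_one]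

/-- Window embedding `i ↦ c * i + d`. -/
theorem exists_window {m : ℕ} (g : Fin m → ℕ) (hg : Function.Injective fun i => (ix (g i) : Fin N)) :
    ∃ e : Fin m ↪ Fin N, ∀ i, e i = ix (g i) := ⟨⟨_, hg⟩, fun _ => rfl⟩

/-- Window generators. -/
def genNine (j : Fin 6) : Perm (Fin 9) :=
  Equiv.swap (Fin.castLE (by norm_num) j) ⟨j + 2, by omega⟩ *
    Equiv.swap ⟨j + 1, by omega⟩ ⟨j + 3, by omega⟩

/-- Window generators, seven points. -/
def genSeven (j : Fin 7) : Perm (Fin 7) := Equiv.swap j (j + 2) * Equiv.swap (j + 1) (j + 3)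

theorem genSeven_cert : genSeven 0 * genSeven 0 = 1 ∧
    genSeven 3 * genSeven 4 * (genSeven 3 * genSeven 4) * (genSeven 3 * genSeven 4) = 1 ∧
    (genSeven 0 * (genSeven 3 * genSeven 4)) ^ 5 = 1 ∧ genSeven 0 ≠ 1 := by decide +kernel

/-- Window generators at distance three. -/
def genFourteen (j : Fin 10) : Perm (Fin 14) :=
  Equiv.swap (Fin.castLE (by norm_num) j) ⟨j + 3, by omega⟩ *
    Equiv.swap ⟨j + 1, by omega⟩ ⟨j + 4, by omega⟩

/-- A three-cycle. -/
def genFiveX : Perm (Fin 5) := Equiv.swap 0 2 * Equiv.swap 2 1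

/-- Its translate by two. -/
def genFiveY : Perm (Fin 5) := Equiv.swap 2 4 * Equiv.swap 4 3

/-- Pattern of double swaps at distance two. -/
theorem not_solvable_two {H : Subgroup (Perm (Fin N))} (hr : finRotate N ∈ H) {c d : ℕ}
    (hc : c = 1 ∨ c = 2) (hN : 7 ≤ N) (hodd : Odd N) (hd : d < 2)
    (h : dbl (0 * c + d) (2 * c + d) (1 * c + d) (3 * c + d) ∈ H) : ¬ Group.IsSolvable ↥H := by
  obtain ⟨k, hk⟩ := hodd
  have key : ∀ j : ℕ, dbl ((0 + j) * c + d) ((2 + j) * c + d) ((1 + j) * c + d)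
      ((3 + j) * c + d) ∈ H := fun j => by
    have := dbl_mem hr h (j * c)
    rwa [Nat.add_right_comm (0 * c), Nat.add_right_comm (2 * c), Nat.add_right_comm (1 * c),
      Nat.add_right_comm (3 * c), ← Nat.add_mul, ← Nat.add_mul, ← Nat.add_mul, ← Nat.add_mul] at this
  have hinj : ∀ m ≤ N, Function.Injective fun i : Fin m => (ix ((i : ℕ) * c + d) : Fin N) := by
    intro m hm i j hij
    simp only [ix, Fin.mk.injEq] at hij
    have h1 : (i : ℕ) * c + d ≡ j * c + d [MOD N] := hij
    have h2 := Nat.ModEq.add_right_cancel' d h1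
    have hcop : Nat.Coprime N c := by
      rcases hc with rfl | rfl
      · exact Nat.coprime_one_right N
      · exact Nat.coprime_two_right.2 ⟨k, hk⟩
    exact Fin.ext ((Nat.ModEq.cancel_right_of_coprime hcop h2).eq_of_lt_of_lt
      (i.2.trans_le hm) (j.2.trans_le hm))
  by_cases h9 : 9 ≤ N
  · obtain ⟨e, he⟩ := exists_window (N := N) (fun i : Fin 9 => (i : ℕ) * c + d) (hinj 9 h9)
    have hg : ∀ j, viaEmbeddingHom e (genNine j) ∈ H := fun j => by
      have := key j
      simp only [genNine, map_mul, via_swap, he]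
      rw [dbl] at this
      simpa [Nat.add_comm] using this
    refine not_solvable_map e (a := genNine 1 * genNine 0 * genNine 3 * genNine 2) (b := genNine 4 * genNine 5) ?_ ?_
      (by decide +kernel) (by decide +kernel) (by decide +kernel) (by decide +kernel)
    · simp only [map_mul]; exact mul_mem (mul_mem (mul_mem (hg 1) (hg 0)) (hg 3)) (hg 2)
    · rw [map_mul]; exact mul_mem (hg 4) (hg 5)
  · obtain rfl : N = 7 := by omega
    obtain ⟨e, he⟩ := exists_window (N := 7) (fun i : Fin 7 => (i : ℕ) * c + d) (hinj 7 le_rfl)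
    have hg : ∀ j, viaEmbeddingHom e (genSeven j) ∈ H := fun j => by
      have := key j
      have hmod : ∀ i : ℕ, e (j + (Fin.ofNat 7 i)) = ix ((i + (j : ℕ)) * c + d) := fun i => by
        rw [he]
        refine Fin.ext ?_
        simp only [ix, Fin.val_add, Fin.ofNat]
        simp [Nat.add_mod, Nat.mul_mod, Nat.add_comm]
      simp only [genSeven, map_mul, via_swap]
      rw [dbl] at this
      have e0 : e j = ix ((0 + (j : ℕ)) * c + d) := by rw [he, Nat.zero_add]
      rw [e0, show e (j + 2) = _ from hmod 2, show e (j + 1) = _ from hmod 1,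
        show e (j + 3) = _ from hmod 3]
      exact this
    refine not_solvable_map e (a := genSeven 0) (b := genSeven 3 * genSeven 4) (hg 0) ?_
      genSeven_cert.1 genSeven_cert.2.1 genSeven_cert.2.2.1 genSeven_cert.2.2.2
    rw [map_mul]; exact mul_mem (hg 3) (hg 4)

/-- Pattern of double swaps at distance three. -/
theorem not_solvable_three {H : Subgroup (Perm (Fin N))} (hr : finRotate N ∈ H) (hN : 15 ≤ N)
    (h : dbl 1 4 2 5 ∈ H) : ¬ Group.IsSolvable ↥H := by
  obtain ⟨e, he⟩ := exists_window (N := N) (fun i : Fin 14 => (i : ℕ) + 1) (fun i j hij =>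
    Fin.ext (by have := (ix_inj (by omega) (by omega)).1 hij; omega))
  have hg : ∀ j, viaEmbeddingHom e (genFourteen j) ∈ H := fun j => by
    have := dbl_mem hr h j
    simp only [genFourteen, map_mul, via_swap, he]
    rw [dbl] at this
    simpa [Nat.add_comm, Nat.add_assoc, Nat.add_left_comm] using this
  refine not_solvable_map e (a := genFourteen 0 * genFourteen 9) (b := genFourteen 3 * genFourteen 6) ?_ ?_
    (by decide +kernel) (by decide +kernel) (by decide +kernel) (by decide +kernel)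
  · rw [map_mul]; exact mul_mem (hg 0) (hg 9)
  · rw [map_mul]; exact mul_mem (hg 3) (hg 6)

/-- Two three-cycles sharing one point. -/
theorem not_solvable_cycle {H : Subgroup (Perm (Fin N))} (hr : finRotate N ∈ H) (hN : 5 ≤ N)
    (h : Equiv.swap (ix 0) (ix 2) * Equiv.swap (ix 2) (ix 1) ∈ H) : ¬ Group.IsSolvable ↥H := by
  obtain ⟨e, he⟩ := exists_window (N := N) (fun i : Fin 5 => (i : ℕ)) (fun i j hij =>
    Fin.ext ((ix_inj (by omega) (by omega)).1 hij))
  have hx : viaEmbeddingHom e genFiveX ∈ H := by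
    simp only [genFiveX, map_mul, via_swap, he]; exact h
  have hy : viaEmbeddingHom e genFiveY ∈ H := by
    simp only [genFiveY, map_mul, via_swap, he]
    have := H.mul_mem (H.mul_mem (pow_mem hr 2) h) (inv_mem (pow_mem hr 2))
    rwa [show finRotate N ^ 2 * (Equiv.swap (ix 0) (ix 2) * Equiv.swap (ix 2) (ix 1)) *
      (finRotate N ^ 2)⁻¹ = (finRotate N ^ 2 * Equiv.swap (ix 0) (ix 2) * (finRotate N ^ 2)⁻¹) *
        (finRotate N ^ 2 * Equiv.swap (ix 2) (ix 1) * (finRotate N ^ 2)⁻¹) by group,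
      swap_shift, swap_shift] at this
  refine not_solvable_map e (a := genFiveX * genFiveX * genFiveY * genFiveX * genFiveY) (b := genFiveX) ?_ hx
    (by decide +kernel) (by decide +kernel) (by decide +kernel) (by decide +kernel)
  simp only [map_mul]
  exact mul_mem (mul_mem (mul_mem (mul_mem hx hx) hy) hx) hy

end Cfsg.Agent.Lie.PProduct
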