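import Cfsg.Agent.Lib.Lie.PProduct.Good

/-!
# Cycles of a permutation as blocks
-/

set_option autoImplicit false

namespace Cfsg.Agent.Lie.PProduct

open Equiv Equiv.Perm

variable {X : Type*} [Fintype X] [DecidableEq X] {w : Perm X}

/-- The cycles of `w`, fixed points included. -/
abbrev Cyc (w : Perm X) := Quotient (SameCycle.setoid w⁻¹)

/-- The length of a cycle. -/
noncomputable def per (q : Cyc w) : ℕ := Function.minimalPeriod (⇑(w⁻¹)) q.out

/-- Points of a cycle. -/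
noncomputable def pt (q : Cyc w) (i : ℕ) : X := ((w⁻¹) ^ i) q.out

theorem isPeriodic (q : Cyc w) : Function.IsPeriodicPt (⇑(w⁻¹)) (orderOf w) q.out := by
  show (⇑(w⁻¹))^[orderOf w] q.out = q.out
  rw [← Equiv.Perm.coe_pow, ← orderOf_inv w, pow_orderOf_eq_one, Equiv.Perm.one_apply]

theorem per_pos (q : Cyc w) : 0 < per q :=
  Function.minimalPeriod_pos_of_mem_periodicPts ⟨orderOf w, orderOf_pos w, isPeriodic q⟩

theorem per_dvd (q : Cyc w) : per q ∣ orderOf w := (isPeriodic q).minimalPeriod_dvd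

theorem pt_mod (q : Cyc w) (i : ℕ) : pt q (i % per q) = pt q i := by
  simp only [pt, Equiv.Perm.coe_pow]
  exact Function.iterate_mod_minimalPeriod_eq

theorem pt_step (q : Cyc w) {L : ℕ} (hL : per q = L) (i : Fin L) :
    w (pt q i) = pt q ((finRotate L).symm i : Fin L) := by
  obtain ⟨j, rfl⟩ := (finRotate L).surjective i
  rw [Equiv.symm_apply_apply]
  have h : ((finRotate L j : Fin L) : ℕ) = ((j : ℕ) + 1) % per q := by
    haveI := j.neZero
    rw [hL, finRotate_apply, Fin.val_add, Fin.val_one', Nat.add_mod_mod]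
  rw [h, pt_mod, pt, pow_succ', Equiv.Perm.mul_apply]
  simp [pt]

theorem quot_pt (q : Cyc w) (i : ℕ) : (⟦pt q i⟧ : Cyc w) = q := by
  conv_rhs => rw [← Quotient.out_eq q]
  exact Quotient.sound (sameCycle_pow_left.2 (SameCycle.refl _ _))

theorem pt_inj (q q' : Cyc w) {i j : ℕ} (hi : i < per q) (hj : j < per q') (h : pt q i = pt q' j) :
    q = q' ∧ i = j := by
  have hq : q = q' := by rw [← quot_pt q i, h, quot_pt]
  subst hq
  refine ⟨rfl, ?_⟩
  simp only [pt, Equiv.Perm.coe_pow] at h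
  exact Function.iterate_injOn_Iio_minimalPeriod (Set.mem_Iio.2 hi) (Set.mem_Iio.2 hj) h

theorem exists_pt (x : X) : ∃ (q : Cyc w) (i : ℕ), i < per q ∧ pt q i = x := by
  refine ⟨⟦x⟧, ?_⟩
  obtain ⟨i, hi⟩ : ∃ i : ℕ, ((w⁻¹) ^ i) (⟦x⟧ : Cyc w).out = x := by
    have h : SameCycle w⁻¹ (⟦x⟧ : Cyc w).out x := Quotient.mk_out (s := SameCycle.setoid w⁻¹) x
    obtain ⟨i, -, hi⟩ := h.exists_pow_eq'
    exact ⟨i, hi⟩
  exact ⟨i % per ⟦x⟧, Nat.mod_lt _ (per_pos _), by rw [pt_mod]; exact hi⟩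

noncomputable instance : Fintype (Cyc w) := Fintype.ofFinite _

theorem sum_per : ∑ q : Cyc w, per q = Fintype.card X := by
  classical
  rw [← Fintype.card_congr (Equiv.ofBijective (fun z : Σ q : Cyc w, Fin (per q) => pt z.1 z.2)
    ⟨fun a b h => ?_, fun x => ?_⟩), Fintype.card_sigma]
  · simp only [Fintype.card_fin]
  · obtain ⟨h1, h2⟩ := pt_inj a.1 b.1 a.2.2 b.2.2 h
    obtain ⟨q, i⟩ := a
    obtain ⟨q', j⟩ := b
    subst h1
    exact congrArg (Sigma.mk q) (Fin.ext h2)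
  · obtain ⟨q, i, hi, rfl⟩ := exists_pt (w := w) x
    exact ⟨⟨q, i, hi⟩, rfl⟩

/-- The backwards rotation on a disjoint union of cycles. -/
def pred {r : ℕ} (L : Fin r → ℕ) : Perm (Σ j, Fin (L j)) :=
  Equiv.sigmaCongrRight fun j => (finRotate (L j)).symm

/-- Selected cycles as a block. -/
theorem exists_block {r : ℕ} (qs : Fin r ↪ Cyc w) (L : Fin r → ℕ) (hL : ∀ j, per (qs j) = L j) :
    ∃ f : (Σ j, Fin (L j)) ↪ X, ∀ x, w (f x) = f (pred L x) := by
  refine ⟨⟨fun z => pt (qs z.1) z.2, fun a b h => ?_⟩, fun z => pt_step _ (hL z.1) z.2⟩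
  obtain ⟨h1, h2⟩ := pt_inj _ _ (by rw [hL]; exact a.2.2) (by rw [hL]; exact b.2.2) h
  obtain ⟨q, i⟩ := a
  obtain ⟨q', j⟩ := b
  have h3 := qs.injective h1
  simp only at h3
  subst h3
  exact congrArg (Sigma.mk q) (Fin.ext h2)

/-- Two cycles of the same odd length give an odd commuting permutation. -/
theorem exists_odd_commute {q q' : Cyc w} (hne : q ≠ q') (hL : per q = per q') (hodd : Odd (per q)) :
    ∃ c : Perm X, sign c = -1 ∧ Commute c w := by
  let qs : Fin 2 ↪ Cyc w := ⟨![q, q'], by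
    intro a b h
    fin_cases a <;> fin_cases b <;> simp_all⟩
  obtain ⟨f, hf⟩ := exists_block qs (fun _ => per q) (fun j => by fin_cases j; exacts [rfl, hL.symm])
  let f' : Fin 2 × Fin (per q) ↪ X := (Equiv.sigmaEquivProd _ _).symm.toEmbedding.trans f
  let k : Perm (Fin 2 × Fin (per q)) := Equiv.prodCongrLeft fun _ => Equiv.swap 0 1
  let a : Perm (Fin 2 × Fin (per q)) := Equiv.prodCongrRight fun _ => (finRotate (per q)).symm
  refine ⟨k.viaEmbedding f', ?_, commute_via f' (a := a) (fun y => ?_) ?_⟩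
  · rw [sign_via, sign_prodCongrLeft, Finset.prod_const, Finset.card_univ, Fintype.card_fin,
      sign_swap (by decide), hodd.neg_one_pow]
  · exact hf ⟨y.1, y.2⟩
  · exact Equiv.ext fun y => rfl

/-- An exact subsum of numbers forming a divisibility chain. -/
theorem exists_subsum {ι : Type*} [DecidableEq ι] (f : ι → ℕ) :
    ∀ (n : ℕ) (s : Finset ι) (T : ℕ), s.card = n → (∀ x ∈ s, ∀ y ∈ s, f x ≤ f y → f x ∣ f y) →
      (∀ x ∈ s, f x ∣ T) → (∀ x ∈ s, 0 < f x) → T ≤ ∑ x ∈ s, f x →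
      ∃ t ⊆ s, ∑ x ∈ t, f x = T := by
  intro n
  induction n with
  | zero =>
    intro s T hs _ _ _ hT
    rw [Finset.card_eq_zero.1 hs, Finset.sum_empty] at hT
    exact ⟨∅, Finset.empty_subset _, by simp; omega⟩
  | succ n ih =>
    intro s T hs hch hdvd hpos hT
    rcases Nat.eq_zero_or_pos T with h0 | h0
    · exact ⟨∅, Finset.empty_subset _, by simp [h0]⟩
    obtain ⟨x, hx, hmax⟩ := Finset.exists_max_image s f (Finset.card_pos.1 (by omega))
    have hxT := Nat.le_of_dvd h0 (hdvd x hx)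
    have hsum := Finset.add_sum_erase s f hx
    obtain ⟨t, ht, hts⟩ := ih (s.erase x) (T - f x) (by rw [Finset.card_erase_of_mem hx]; omega)
      (fun a ha b hb => hch a (Finset.mem_of_mem_erase ha) b (Finset.mem_of_mem_erase hb))
      (fun a ha => Nat.dvd_sub (hdvd a (Finset.mem_of_mem_erase ha))
        (hch a (Finset.mem_of_mem_erase ha) x hx (hmax a (Finset.mem_of_mem_erase ha))))
      (fun a ha => hpos a (Finset.mem_of_mem_erase ha)) (by omega)
    refine ⟨insert x t, Finset.insert_subset hx (ht.trans (Finset.erase_subset _ _)), ?_⟩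
    rw [Finset.sum_insert fun h => Finset.notMem_erase x s (ht h), hts]
    omega

/-- Distinct powers of `p` below `p ^ k` sum to less than `p ^ k`. -/
theorem sum_distinct_lt {ι : Type*} [DecidableEq ι] {p : ℕ} (hp : 2 ≤ p) (k : ℕ) (s : Finset ι)
    (f : ι → ℕ) (hf : ∀ x ∈ s, ∃ j, j < k ∧ f x = p ^ j) (hinj : Set.InjOn f s) :
    ∑ x ∈ s, f x < p ^ k := by
  choose! e he using hf
  rw [Finset.sum_congr rfl fun x hx => (he x hx).2,
    ← Finset.sum_image (f := fun i => p ^ i) (g := e) fun a ha b hb h => hinj ha hb (by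
      rw [(he a ha).2, (he b hb).2, h])]
  exact Nat.geomSum_lt hp fun i hi => by
    obtain ⟨x, hx, rfl⟩ := Finset.mem_image.1 hi
    exact (he x hx).1

end Cfsg.Agent.Lie.PProduct
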